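import Mathlib

/-!
# Equivariant pairings and unipotent actions

The algebra behind the theorem on transfer and the abelian Thompson subgroup: the degree of a
unipotent action on one side of an equivariant pairing, the bound on the degree coming from a
cubic condition on isotropic orbits, and the fact that a nondegenerate invariant form is not a
coboundary for an element of small degree.
-/

set_option autoImplicit false
set_option linter.unusedSectionVars false

namespace CfsgLib.JTransfer

/-! ### The degree on a factor of a pairing -/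

section Pair

variable {V₁ V₂ W : Type*} [AddCommGroup V₁] [AddCommGroup V₂] [AddCommGroup W]

/-- If `ω` is equivariant for `a₁`, `a₂`, `c` and `(a₂ - 1) ^ i = 0`, `(c - 1) ^ j = 0`, then the
image of `(a₁ - 1) ^ (i + j - 1)` lies in the left radical. -/
theorem pair_degree (a₁ : AddMonoid.End V₁) (a₂ : AddMonoid.End V₂) (c : AddMonoid.End W)
    (ω : V₁ →+ V₂ →+ W) (he : ∀ u v, ω (a₁ u) (a₂ v) = c (ω u v)) {i j : ℕ}
    (h₂ : (a₂ - 1) ^ i = 0) (hc : (c - 1) ^ j = 0) (u : V₁) (v : V₂) :
    ω (((a₁ - 1) ^ (i + j - 1)) u) v = 0 := by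
  set T₁ := a₁ - 1 with hT₁
  set T₂ := a₂ - 1 with hT₂
  set D := c - 1 with hD
  have hexp : ∀ x y, ω (T₁ x) y = D (ω x y) - ω x (T₂ y) - ω (T₁ x) (T₂ y) := by
    intro x y
    have e1 : a₁ x = T₁ x + x := by rw [hT₁]; exact (sub_add_cancel (a₁ x) x).symm
    have e2 : a₂ y = T₂ y + y := by rw [hT₂]; exact (sub_add_cancel (a₂ y) y).symm
    have e3 : D (ω x y) = c (ω x y) - ω x y := rfl
    rw [e3, ← he x y, e1, e2]
    simp only [map_add, AddMonoidHom.add_apply]
    abel
  let Img : ℕ → W → Prop := fun m w => ∃ w₀, (D ^ m) w₀ = w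
  have hsucc : ∀ {m : ℕ} {w : W}, Img m w → Img (m + 1) (D w) := by
    rintro m _ ⟨w₀, rfl⟩
    exact ⟨w₀, by rw [pow_succ']; rfl⟩
  have hmono : ∀ {m m' : ℕ} {w : W}, m' ≤ m → Img m w → Img m' w := by
    rintro m m' _ h ⟨w₀, rfl⟩
    exact ⟨(D ^ (m - m')) w₀, by
      conv_rhs => rw [← Nat.add_sub_cancel' h, pow_add]
      rfl⟩
  have hsub : ∀ {m : ℕ} {w w' : W}, Img m w → Img m w' → Img m (w - w') := by
    rintro m _ _ ⟨w₀, rfl⟩ ⟨w₁, rfl⟩
    exact ⟨w₀ - w₁, map_sub _ _ _⟩
  have hzero : ∀ m, Img m 0 := fun m => ⟨0, map_zero _⟩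
  have hbig : ∀ l, i ≤ l → ∀ y, (T₂ ^ l) y = 0 := by
    intro l hl y
    rw [← Nat.add_sub_cancel' hl, pow_add, h₂, zero_mul]
    rfl
  have claim : ∀ n l, ∀ x y, Img (n + l + 1 - i) (ω ((T₁ ^ n) x) ((T₂ ^ l) y)) := by
    intro n
    induction n with
    | zero =>
      intro l x y
      rcases le_or_gt i l with hl | hl
      · rw [hbig l hl, map_zero]; exact hzero _
      · rw [show 0 + l + 1 - i = 0 by omega]; exact ⟨_, rfl⟩
    | succ n ih =>
      have key : ∀ k l, i ≤ l + k → ∀ x y,
          Img (n + 1 + l + 1 - i) (ω ((T₁ ^ (n + 1)) x) ((T₂ ^ l) y)) := by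
        intro k
        induction k with
        | zero => intro l hl x y; rw [hbig l (by omega), map_zero]; exact hzero _
        | succ k ihk =>
          intro l hl x y
          have e : (T₁ ^ (n + 1)) x = T₁ ((T₁ ^ n) x) := by rw [pow_succ']; rfl
          have e' : (T₂ ^ (l + 1)) y = T₂ ((T₂ ^ l) y) := by rw [pow_succ']; rfl
          rw [e, hexp, ← e, ← e']
          refine hsub (hsub (hmono (by omega) (hsucc (ih l x y))) ?_) ?_
          · exact hmono (by omega) (ih (l + 1) x y)
          · exact hmono (by omega) (ihk (l + 1) (by omega) x y)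
      exact fun l x y => key i l (by omega) x y
  obtain ⟨w₀, hw₀⟩ := claim (i + j - 1) 0 u v
  rw [pow_zero] at hw₀
  have e : (1 : AddMonoid.End V₂) v = v := rfl
  rw [e] at hw₀
  rw [← hw₀, ← Nat.add_sub_cancel' (show j ≤ i + j - 1 + 0 + 1 - i by omega), pow_add, hc, zero_mul]
  rfl

end Pair

/-! ### The degree bound from isotropic orbits -/

section Degree

variable {ι V W : Type*} [AddCommGroup V] [AddCommGroup W]
variable (D : ι → AddMonoid.End V) (Δ : ι → AddMonoid.End W) (ω : V →+ V →+ W)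

/-- The product of the operators along a list. -/
def opProd (l : List ι) : AddMonoid.End V := (l.map D).prod

/-- All products of `N` operators vanish. -/
def Nil (N : ℕ) : Prop := ∀ l : List ι, l.length = N → ∀ v, opProd D l v = 0

variable {D Δ ω}

theorem opProd_cons (a : ι) (l : List ι) (v : V) : opProd D (a :: l) v = D a (opProd D l v) := by
  simp only [opProd, List.map_cons, List.prod_cons]
  rfl

theorem opProd_nil (v : V) : opProd D ([] : List ι) v = v := rfl

theorem Nil.vanish {N : ℕ} (h : Nil D N) : ∀ (l : List ι), N ≤ l.length → ∀ v, opProd D l v = 0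
  | [], hl, v => h [] (by simpa using hl.antisymm' (Nat.zero_le _)) v
  | a :: l, hl, v => by
    rcases Nat.lt_or_ge l.length N with hlt | hge
    · exact h (a :: l) (by simp only [List.length_cons] at hl ⊢; omega) v
    · rw [opProd_cons, Nil.vanish h l hge v, map_zero]

variable (hexp : ∀ a u v, ω (D a u) v + ω u (D a v) + ω (D a u) (D a v) = Δ a (ω u v))
include hexp

/-- Moving the operators to one side. -/
theorem shift {N : ℕ} (hN : Nil D N) (M : ℕ) (hM : N ≤ M)
    (hz : ∀ e (l₁ l₂ : List ι), M ≤ l₁.length + l₂.length + 1 → ∀ u v,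
      Δ e (ω (opProd D l₁ u) (opProd D l₂ v)) = 0) :
    ∀ (l₁ l₂ : List ι), M ≤ l₁.length + l₂.length → ∀ u v,
      ω (opProd D l₁ u) (opProd D l₂ v) = 0 := by
  suffices h : ∀ k (l₁ l₂ : List ι), M ≤ l₁.length + l₂.length →
      2 * N ≤ l₁.length + l₂.length + k → ∀ u v, ω (opProd D l₁ u) (opProd D l₂ v) = 0 from
    fun l₁ l₂ h₁ => h (2 * N) l₁ l₂ h₁ (by omega)
  intro k
  induction k with
  | zero =>
    intro l₁ l₂ _ h u v
    rcases Nat.lt_or_ge l₁.length N with h1 | h1
    · rw [hN.vanish l₂ (by omega), map_zero]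
    · rw [hN.vanish l₁ h1, map_zero, AddMonoidHom.zero_apply]
  | succ k ih =>
    intro l₁
    induction l₁ with
    | nil =>
      intro l₂ h₁ _ u v
      rw [hN.vanish l₂ (by simp only [List.length_nil] at h₁; omega), map_zero]
    | cons e l₁ ih₁ =>
      intro l₂ h₁ h₂ u v
      simp only [List.length_cons] at h₁ h₂
      have h := hexp e (opProd D l₁ u) (opProd D l₂ v)
      rw [hz e l₁ l₂ (by omega) u v, ← opProd_cons, ← opProd_cons] at h
      rw [ih₁ (e :: l₂) (by simp only [List.length_cons]; omega)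
        (by simp only [List.length_cons]; omega) u v,
        ih (e :: l₁) (e :: l₂) (by simp only [List.length_cons]; omega)
        (by simp only [List.length_cons]; omega) u v, add_zero, add_zero] at h
      exact h

variable (hkey : ∀ z, (∀ a b, ω (D a z) (D b z) = 0) → ∀ a b e, D e (D a (D b z)) = 0)
include hkey

theorem nil_of_isotropic (k : ℕ)
    (h : ∀ (a b : ι) (l : List ι), l.length = k → ∀ y,
      ω (opProd D (a :: l) y) (opProd D (b :: l) y) = 0) : Nil D (k + 3) := by
  intro l hl v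
  match l, hl with
  | e :: a :: b :: l, hl =>
    simp only [List.length_cons] at hl
    rw [opProd_cons, opProd_cons, opProd_cons]
    exact hkey _ (fun a' b' => by
      rw [← opProd_cons, ← opProd_cons]; exact h a' b' l (by omega) v) a b e

/-- With a quadratic action on the values, the degree is at most six. -/
theorem nil_six (hquad : ∀ a b w, Δ a (Δ b w) = 0) (hex : ∃ N, Nil D N) : Nil D 6 := by
  obtain ⟨N, hN⟩ := hex
  induction N using Nat.strong_induction_on with
  | _ N ih =>
    rcases Nat.lt_or_ge N 7 with h7 | h7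
    · exact fun l hl v => hN.vanish l (by omega) v
    · refine ih (N / 2 + 3) (by omega) (nil_of_isotropic hexp hkey (N / 2) fun a b l hl y => ?_)
      -- the derived form is invariant
      have hinv : ∀ e' (l₁ l₂ : List ι), N ≤ l₁.length + l₂.length → ∀ u v,
          Δ e' (ω (opProd D l₁ u) (opProd D l₂ v)) = 0 := by
        intro e'
        refine shift (D := D) (Δ := fun _ => 0) (ω := ω.compr₂ (Δ e')) ?_ hN N le_rfl
          (fun _ _ _ _ _ _ => rfl)
        intro a' u v
        show Δ e' (ω (D a' u) v) + Δ e' (ω u (D a' v)) + Δ e' (ω (D a' u) (D a' v)) = 0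
        rw [← map_add, ← map_add, hexp, hquad]
      exact shift hexp hN (N + 1) (Nat.le_succ N)
        (fun e l₁ l₂ h => hinv e l₁ l₂ (by omega)) (a :: l) (b :: l)
        (by simp only [List.length_cons]; omega) y y

/-- For an invariant alternating form the degree is at most four. -/
theorem nil_four (hΔ : ∀ a w, Δ a w = 0) (halt : ∀ u, ω u u = 0)
    (hcomm : ∀ a b, D a * D b = D b * D a) (h2 : ∀ w : W, w + w = 0 → w = 0) (h6 : Nil D 6) :
    Nil D 4 := by
  have hsh : ∀ {N : ℕ}, Nil D N → ∀ (l₁ l₂ : List ι), N ≤ l₁.length + l₂.length → ∀ u v,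
      ω (opProd D l₁ u) (opProd D l₂ v) = 0 := fun hN =>
    shift hexp hN _ le_rfl fun e _ _ _ _ _ => hΔ e _
  have hcm : ∀ a b v, D a (D b v) = D b (D a v) := fun a b v =>
    DFunLike.congr_fun (hcomm a b) v
  have h5 : Nil D 5 := nil_of_isotropic hexp hkey 2 fun a b l hl y =>
    hsh h6 _ _ (by simp only [List.length_cons]; omega) y y
  refine nil_of_isotropic hexp hkey 1 fun a c l hl y => ?_
  obtain ⟨b, rfl⟩ := List.length_eq_one_iff.1 hl
  simp only [opProd_cons, opProd_nil]
  have move : ∀ a b f g, ω (D a (D b y)) (D f (D g y)) = ω y (D b (D a (D f (D g y)))) := by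
    intro a b f g
    have e1 : ω (D a (D b y)) (D f (D g y)) = - ω (D b y) (D a (D f (D g y))) := by
      have h := hexp a (D b y) (D f (D g y))
      have h3 : ω (D a (D b y)) (D a (D f (D g y))) = 0 := by
        simpa only [opProd_cons, opProd_nil] using hsh h5 [a, b] [a, f, g] (by simp) y y
      rw [hΔ, h3, add_zero] at h
      exact eq_neg_of_add_eq_zero_left h
    have e2 : ω (D b y) (D a (D f (D g y))) = - ω y (D b (D a (D f (D g y)))) := by
      have h := hexp b y (D a (D f (D g y)))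
      have h3 : ω (D b y) (D b (D a (D f (D g y)))) = 0 := by
        simpa only [opProd_cons, opProd_nil] using hsh h5 [b] [b, a, f, g] (by simp) y y
      rw [hΔ, h3, add_zero] at h
      exact eq_neg_of_add_eq_zero_left h
    rw [e1, e2, neg_neg]
  refine h2 _ ?_
  have hanti : ∀ u v, ω u v + ω v u = 0 := by
    intro u v
    have h := halt (u + v)
    rw [map_add, map_add, AddMonoidHom.add_apply, AddMonoidHom.add_apply, halt, halt, zero_add,
      add_zero] at h
    rwa [add_comm] at h
  have e : ω (D c (D b y)) (D a (D b y)) = ω (D a (D b y)) (D c (D b y)) := by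
    rw [move, move]
    congr 1
    rw [hcm c a (D b y)]
  have h := hanti (D a (D b y)) (D c (D b y))
  rwa [e] at h

end Degree

/-! ### A nondegenerate invariant pairing is not a coboundary -/

section Coboundary

variable {p : ℕ} [hp : Fact p.Prime] {V V' : Type*} [AddCommGroup V] [AddCommGroup V'] [Finite V]
  [Finite V']

theorem subsingleton_of_coboundary_aux [Module (ZMod p) V] [Module (ZMod p) V']
    (hV : ∀ v : V, p • v = 0)
    (a : AddMonoid.End V) (a' : AddMonoid.End V') (b₀ b₁ : V →+ V' →+ ZMod p)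
    (h₀ : ∀ u v, b₀ (a u) (a' v) = b₀ u v)
    (h₁ : ∀ u v, b₁ (a u) (a' v) = b₁ u v + b₀ u v)
    (hl : ∀ u, b₀ u = 0 → u = 0) (hr : ∀ v, (∀ u, b₀ u v = 0) → v = 0)
    {k : ℕ} (hk : k < p) (hT : (a - 1) ^ k = 0) (u : V) : u = 0 := by
  classical
  have : Module.Finite (ZMod p) V := Module.Finite.of_finite
  have : Module.Finite (ZMod p) V' := Module.Finite.of_finite
  let B : V →ₗ[ZMod p] (V' →ₗ[ZMod p] ZMod p) :=
    LinearMap.mk₂ (ZMod p) (fun u v => b₀ u v)
      (fun x y v => by rw [map_add, AddMonoidHom.add_apply])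
      (fun c x v => by
        show (b₀.flip v) (c • x) = c • (b₀.flip v) x
        exact ZMod.map_smul _ c x)
      (fun x v w => map_add (b₀ x) v w)
      (fun c x v => ZMod.map_smul (b₀ x) c v)
  have hB : ∀ u v, B u v = b₀ u v := fun _ _ => rfl
  have hBinj : Function.Injective B := (injective_iff_map_eq_zero B).2 fun u hu => hl u (by
    ext v; rw [← hB, hu]; rfl)
  have hFinj : Function.Injective B.flip := (injective_iff_map_eq_zero B.flip).2 fun v hv => hr v
    fun u => by rw [← hB, ← LinearMap.flip_apply, hv]; rfl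
  have hdim : Module.finrank (ZMod p) V = Module.finrank (ZMod p) (Module.Dual (ZMod p) V') := by
    refine le_antisymm (LinearMap.finrank_le_finrank_of_injective hBinj) ?_
    rw [Subspace.dual_finrank_eq]
    exact (LinearMap.finrank_le_finrank_of_injective hFinj).trans_eq Subspace.dual_finrank_eq
  have hBsurj : Function.Surjective B :=
    (LinearMap.injective_iff_surjective_of_finrank_eq_finrank hdim).1 hBinj
  choose r hr' using fun u : V => hBsurj ((b₁ u).toZModLinearMap p)
  have hrv : ∀ u v, b₀ (r u) v = b₁ u v := fun u v => by rw [← hB, hr']; rfl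
  have hext : ∀ x y : V, (∀ v, b₀ x v = b₀ y v) → x = y := fun x y h => sub_eq_zero.1 (hl _ (by
    ext v; rw [map_sub, AddMonoidHom.sub_apply, h, sub_self]; rfl))
  let R : AddMonoid.End V :=
    { toFun := r
      map_zero' := hext _ _ fun v => by rw [hrv, map_zero, map_zero]
      map_add' := fun x y => hext _ _ fun v => by
        rw [hrv, map_add, map_add, AddMonoidHom.add_apply, AddMonoidHom.add_apply, hrv, hrv] }
  have ha'inj : Function.Injective a' := (injective_iff_map_eq_zero a').2 fun v hv => hr v fun u => by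
    rw [← h₀ u v, hv, map_zero]
  have ha'surj : Function.Surjective a' := Finite.injective_iff_surjective.1 ha'inj
  have hainj : Function.Injective a := (injective_iff_map_eq_zero a).2 fun u hu => hl u (by
    ext v; rw [← h₀ u v, hu, map_zero]; rfl)
  have hRa : R * a = a * R + a := by
    refine AddMonoidHom.ext fun u => hext _ _ fun v => ?_
    obtain ⟨v, rfl⟩ := ha'surj v
    show b₀ (r (a u)) (a' v) = b₀ (a (r u) + a u) (a' v)
    rw [hrv, h₁, map_add, AddMonoidHom.add_apply, h₀, h₀, hrv]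
  set T := a - 1 with hTdef
  have haT : a * T = T * a := by rw [hTdef, mul_sub, sub_mul, mul_one, one_mul]
  have hRT : R * T = T * R + a := by
    rw [hTdef, mul_sub, sub_mul, mul_one, one_mul, hRa]
    abel
  have hpow : ∀ m : ℕ, R * T ^ (m + 1) = T ^ (m + 1) * R + (m + 1) • (a * T ^ m) := by
    intro m
    induction m with
    | zero => simpa using hRT
    | succ m ih =>
      have e1 : T ^ (m + 1) * a = a * T ^ (m + 1) := (Commute.pow_left haT.symm (m + 1)).eq
      calc R * T ^ (m + 1 + 1) = R * T ^ (m + 1) * T := by rw [pow_succ (T) (m + 1), mul_assoc]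
        _ = T ^ (m + 1) * (R * T) + (m + 1) • (a * T ^ m * T) := by
              rw [ih, add_mul, smul_mul_assoc, mul_assoc]
        _ = T ^ (m + 1 + 1) * R + (a * T ^ (m + 1) + (m + 1) • (a * T ^ (m + 1))) := by
              rw [hRT, mul_add, e1, ← mul_assoc, ← pow_succ, mul_assoc a, ← pow_succ, add_assoc]
        _ = _ := by rw [succ_nsmul' (a * T ^ (m + 1)) (m + 1)]
  have hdesc : ∀ m, m < p → T ^ m = 0 → ∀ x : V, x = 0 := by
    intro m
    induction m with
    | zero =>
      intro _ h x
      rw [pow_zero] at h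
      exact DFunLike.congr_fun h x
    | succ m ih =>
      intro hm h
      refine ih (by omega) (AddMonoidHom.ext fun x => hainj ?_)
      have h1 := hpow m
      rw [h, mul_zero, zero_mul, zero_add] at h1
      have h2 : (m + 1) • a ((T ^ m) x) = 0 := (DFunLike.congr_fun h1 x).symm
      have h3 : addOrderOf (a ((T ^ m) x)) = 1 :=
        Nat.eq_one_of_dvd_coprimes
          ((hp.out.coprime_iff_not_dvd.2 (Nat.not_dvd_of_pos_of_lt (Nat.succ_pos m) hm)))
          (addOrderOf_dvd_of_nsmul_eq_zero (hV _)) (addOrderOf_dvd_of_nsmul_eq_zero h2)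
      show a ((T ^ m) x) = a 0
      exact (AddMonoid.addOrderOf_eq_one_iff.1 h3).trans (map_zero a).symm
  exact hdesc k hk hT u

/-- A nondegenerate invariant pairing is not the coboundary of a pairing, for an element whose
degree is less than `p`. -/
theorem subsingleton_of_coboundary (hV : ∀ v : V, p • v = 0) (hV' : ∀ v : V', p • v = 0)
    (a : AddMonoid.End V) (a' : AddMonoid.End V') (b₀ b₁ : V →+ V' →+ ZMod p)
    (h₀ : ∀ u v, b₀ (a u) (a' v) = b₀ u v)
    (h₁ : ∀ u v, b₁ (a u) (a' v) = b₁ u v + b₀ u v)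
    (hl : ∀ u, b₀ u = 0 → u = 0) (hr : ∀ v, (∀ u, b₀ u v = 0) → v = 0)
    {k : ℕ} (hk : k < p) (hT : (a - 1) ^ k = 0) (u : V) : u = 0 :=
  @subsingleton_of_coboundary_aux p hp V V' _ _ _ _ (AddCommGroup.zmodModule hV)
    (AddCommGroup.zmodModule hV') hV a a' b₀ b₁ h₀ h₁ hl hr k hk hT u

end Coboundary

/-! ### Restriction to subnormal subgroups -/

section Clifford

variable {G V : Type*} [Group G] [AddCommGroup V] (ρ : G →* AddMonoid.End V)

/-- A minimal nonzero invariant subgroup. -/
def IsIrred (H : Subgroup G) (U : AddSubgroup V) : Prop :=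
  U ≠ ⊥ ∧ (∀ h ∈ H, ∀ u ∈ U, ρ h u ∈ U) ∧
    ∀ U' ≤ U, (∀ h ∈ H, ∀ u ∈ U', ρ h u ∈ U') → U' = ⊥ ∨ U' = U

/-- If every overgroup of `H` is properly contained in its normaliser (or is the whole group) and
the group acts irreducibly, then `H` acts semisimply. -/
theorem generated_irred [Finite G] [Finite V] (htop : IsIrred ρ ⊤ ⊤) :
    ∀ H : Subgroup G, (∀ K, H ≤ K → K ≠ ⊤ → K < Subgroup.normalizer (K : Set G)) →
      sSup {U | IsIrred ρ H U} = ⊤ := by
  intro H
  induction H using WellFoundedGT.induction with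
  | _ H ih =>
    intro hnc
    rcases eq_or_ne H ⊤ with rfl | hH
    · exact top_le_iff.1 (le_sSup htop)
    set K := Subgroup.normalizer (H : Set G) with hK
    have hHK : H < K := hnc H le_rfl hH
    have hKgen := ih K hHK fun K' hK' => hnc K' (hHK.le.trans hK')
    rw [← top_le_iff, ← hKgen]
    refine sSup_le fun U hU => ?_
    obtain ⟨U₀, ⟨hU₀le, hU₀ne, hU₀inv⟩, hU₀min⟩ :=
      Set.Finite.exists_minimal (s := {U' : AddSubgroup V | U' ≤ U ∧ U' ≠ ⊥ ∧ ∀ h ∈ H, ∀ u ∈ U', ρ h u ∈ U'})
        (Set.toFinite _) ⟨U, le_rfl, hU.1, fun h hh => hU.2.1 h (hHK.le hh)⟩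
    have hcan : ∀ k : G, ∀ x, ρ k⁻¹ (ρ k x) = x := fun k x => by
      show (ρ k⁻¹ * ρ k) x = x
      rw [← map_mul, inv_mul_cancel, map_one]; rfl
    have hcan' : ∀ k : G, ∀ x, ρ k (ρ k⁻¹ x) = x := fun k x => by
      simpa using hcan k⁻¹ x
    have hirr : ∀ k ∈ K, IsIrred ρ H (U₀.map (ρ k : V →+ V)) := by
      intro k hk
      have hconj : ∀ k ∈ K, ∀ h ∈ H, k⁻¹ * h * k ∈ H := fun k hk h hh =>
        (Subgroup.mem_normalizer_iff''.1 hk h).1 hh
      refine ⟨?_, ?_, ?_⟩
      · intro e
        refine hU₀ne ((AddSubgroup.eq_bot_iff_forall _).2 fun x hx => ?_)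
        have h1 : ρ k x = 0 := by
          rw [← AddSubgroup.mem_bot, ← e]; exact ⟨x, hx, rfl⟩
        rw [← hcan k x, h1, map_zero]
      · rintro h hh _ ⟨x, hx, rfl⟩
        refine ⟨ρ (k⁻¹ * h * k) x, hU₀inv _ (hconj k hk h hh) x hx, ?_⟩
        show ρ k (ρ (k⁻¹ * h * k) x) = ρ h (ρ k x)
        show (ρ k * ρ (k⁻¹ * h * k)) x = (ρ h * ρ k) x
        rw [← map_mul, ← map_mul]
        congr 2
        group
      · intro U' hle hinv
        rcases eq_or_ne U' ⊥ with h | h
        · exact Or.inl h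
        refine Or.inr (le_antisymm hle ?_)
        set U'' : AddSubgroup V := U'.map (ρ k⁻¹ : V →+ V) with hU''
        have h1 : U'' ≤ U₀ := by
          rintro _ ⟨y, hy, rfl⟩
          obtain ⟨x, hx, rfl⟩ := hle hy
          show ρ k⁻¹ (ρ k x) ∈ U₀
          rw [hcan]; exact hx
        have h2 : U₀ ≤ U'' := hU₀min ⟨h1.trans hU₀le, ?_, ?_⟩ h1
        · rintro _ ⟨x, hx, rfl⟩
          obtain ⟨y, hy, e⟩ := h2 hx
          show ρ k x ∈ U'
          rw [show x = ρ k⁻¹ y from e.symm, hcan']
          exact hy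
        · intro e
          refine h ((AddSubgroup.eq_bot_iff_forall _).2 fun y hy => ?_)
          have h3 : ρ k⁻¹ y = 0 := by
            rw [← AddSubgroup.mem_bot, ← e]; exact ⟨y, hy, rfl⟩
          rw [← hcan' k y, h3, map_zero]
        · rintro h' hh' _ ⟨y, hy, rfl⟩
          refine ⟨ρ (k * h' * k⁻¹) y, hinv _ ?_ y hy, ?_⟩
          · simpa using hconj k⁻¹ (inv_mem hk) h' hh'
          show (ρ k⁻¹ * ρ (k * h' * k⁻¹)) y = (ρ h' * ρ k⁻¹) y
          rw [← map_mul, ← map_mul]
          congr 2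
          group
    set U₁ : AddSubgroup V := ⨆ k ∈ K, U₀.map (ρ k : V →+ V) with hU₁
    have hU₁le : U₁ ≤ U := iSup₂_le fun k hk => by
      rintro _ ⟨x, hx, rfl⟩
      exact hU.2.1 k hk x (hU₀le hx)
    have hU₁inv : ∀ l ∈ K, ∀ u ∈ U₁, ρ l u ∈ U₁ := by
      intro l hl
      have : U₁ ≤ U₁.comap (ρ l : V →+ V) := iSup₂_le fun k hk => by
        rintro _ ⟨x, hx, rfl⟩
        refine AddSubgroup.mem_iSup_of_mem (l * k) (AddSubgroup.mem_iSup_of_mem (mul_mem hl hk) ⟨x, hx, ?_⟩)
        show ρ (l * k) x = ρ l (ρ k x)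
        rw [map_mul]; rfl
      exact fun u hu => this hu
    rcases hU.2.2 U₁ hU₁le hU₁inv with h | h
    · refine absurd ((AddSubgroup.eq_bot_iff_forall _).2 fun x hx => ?_) hU₀ne
      rw [← AddSubgroup.mem_bot, ← h]
      refine AddSubgroup.mem_iSup_of_mem 1 (AddSubgroup.mem_iSup_of_mem (one_mem K) ⟨x, hx, ?_⟩)
      rw [map_one]; rfl
    · rw [← h]
      exact iSup₂_le fun k hk => le_sSup (hirr k hk)

end Clifford

end CfsgLib.JTransfer
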