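import Cfsg.Agent.Lib.JTransfer.ClassTwo

/-!
# Centralising the values of the form

If the elements centralising the values of the form have a `p`-group of quotient (so that overgroups
are properly contained in their normalisers), the chosen abelian subgroup centralises the values.
-/

set_option autoImplicit false
set_option linter.unusedSectionVars false

open Subgroup
open scoped commutatorElement IsMulCommutative

namespace CfsgLib.JTransfer

variable {G : Type*} [Group G]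

theorem exists_functional_aux {p : ℕ} [Fact p.Prime] {W : Type*} [AddCommGroup W]
    [Module (ZMod p) W] {w : W} (hw : w ≠ 0) : ∃ ψ : W →+ ZMod p, ψ w ≠ 0 := by
  by_contra hcon
  push Not at hcon
  exact hw ((Module.forall_dual_apply_eq_zero_iff (ZMod p) w).1 fun φ => hcon φ.toAddMonoidHom)

theorem exists_functional {p : ℕ} [Fact p.Prime] {W : Type*} [AddCommGroup W]
    (hp : ∀ v : W, p • v = 0) {w : W} (hw : w ≠ 0) : ∃ ψ : W →+ ZMod p, ψ w ≠ 0 :=
  @exists_functional_aux p _ W _ (AddCommGroup.zmodModule hp) w hw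

theorem act_inv_act {H V : Type*} [Group H] [AddCommGroup V] (ρ : H →* AddMonoid.End V) (g : H)
    (x : V) : ρ g (ρ g⁻¹ x) = x := by
  show (ρ g * ρ g⁻¹) x = x
  rw [← map_mul, mul_inv_cancel, map_one]; rfl

variable [Finite G] {p : ℕ} [Fact p.Prime] {S A Q U₁ Z₁ : Subgroup G} [Q.Normal] [U₁.Normal]
  [Z₁.Normal] [IsMulCommutative ↥(sec U₁ Z₁)]
  [IsMulCommutative ↥(sec ⁅U₁, U₁⁆ (⊥ : Subgroup G))]
  {ω : Additive ↥(sec U₁ Z₁) →+ Additive ↥(sec U₁ Z₁) →+
    Additive ↥(sec ⁅U₁, U₁⁆ (⊥ : Subgroup G))}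

theorem IsForm.irred (hc : Core Q U₁ Z₁) : IsIrred (act U₁ Z₁) ⊤ ⊤ := by
  obtain ⟨hlt, -, -, hmax⟩ := hc.chief
  refine ⟨fun e => hlt.not_ge fun u hu => ?_, fun _ _ _ _ => AddSubgroup.mem_top _, fun N _ hinv => ?_⟩
  · have h1 : cl Z₁ (⟨u, hu⟩ : ↥U₁) ∈ (⊤ : AddSubgroup (Additive ↥(sec U₁ Z₁))) :=
      AddSubgroup.mem_top _
    rw [e, AddSubgroup.mem_bot] at h1
    exact cl_eq_zero.1 h1
  let P : Subgroup G :=
    { carrier := {x | ∃ hx : x ∈ U₁, cl Z₁ (⟨x, hx⟩ : ↥U₁) ∈ N}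
      one_mem' := ⟨one_mem _, by
        rw [show (⟨1, one_mem _⟩ : ↥U₁) = 1 from rfl, cl_one]; exact zero_mem _⟩
      mul_mem' := by
        rintro a b ⟨ha, ha'⟩ ⟨hb, hb'⟩
        exact ⟨mul_mem ha hb, by
          rw [show (⟨a * b, mul_mem ha hb⟩ : ↥U₁) = ⟨a, ha⟩ * ⟨b, hb⟩ from rfl, cl_mul]
          exact add_mem ha' hb'⟩
      inv_mem' := by
        rintro a ⟨ha, ha'⟩
        exact ⟨inv_mem ha, by
          rw [show (⟨a⁻¹, inv_mem ha⟩ : ↥U₁) = (⟨a, ha⟩ : ↥U₁)⁻¹ from rfl, cl_inv]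
          exact neg_mem ha'⟩ }
  have hPn : P.Normal := ⟨by
    rintro x ⟨hx, hx'⟩ g
    have h1 := hinv g (mem_top g) _ hx'
    rw [act_cl] at h1
    exact ⟨_, h1⟩⟩
  have hZP : Z₁ ≤ P := fun z hz => ⟨hlt.le hz, by
    rw [cl_eq_zero.2 (show ((⟨z, hlt.le hz⟩ : ↥U₁) : G) ∈ Z₁ from hz)]; exact zero_mem _⟩
  rcases hmax P hPn hZP (fun x hx => hx.1) with e | e
  · refine Or.inl ((AddSubgroup.eq_bot_iff_forall _).2 fun v hv => ?_)
    obtain ⟨u, rfl⟩ := cl_surj v
    exact cl_eq_zero.2 (e.le (⟨u.2, hv⟩ : (u : G) ∈ P))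
  · refine Or.inr (top_le_iff.1 fun v _ => ?_)
    obtain ⟨u, rfl⟩ := cl_surj v
    exact (e.symm.le u.2).2

/-- The chosen subgroup centralises the values. -/
theorem IsForm.centralize (hω : IsForm ω) (hc : Core Q U₁ Z₁) (h : Chosen S Q A)
    (hS : IsPGroup p S) (hQS : Q ≤ S) (hp : 6 < p)
    (hnc : ∀ K : Subgroup G, (∀ g, act ⁅U₁, U₁⁆ ⊥ g = 1 → g ∈ K) → K ≠ ⊤ →
      K < normalizer (K : Set G)) :
    ∀ a ∈ A, act ⁅U₁, U₁⁆ ⊥ a = 1 := by
  classical
  intro a ha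
  set ρ := act U₁ Z₁ with hρ
  set σ := act ⁅U₁, U₁⁆ (⊥ : Subgroup G) with hσ
  set Δ := σ a - 1 with hΔ
  refine hω.spans a fun x y => ?_
  suffices key : ∀ x y, Δ (ω x y) = 0 from sub_eq_zero.1 (key x y)
  have hU : IsPGroup p U₁ := (hS.to_le hQS).to_le hc.le
  obtain ⟨hexpV, hexpW⟩ := IsForm.smul_eq_zero (p := p) hc hU
  set H : Subgroup G := σ.ker ⊔ zpowers a with hH
  have hgen := generated_irred ρ (IsForm.irred hc) H fun K hK hK' =>
    hnc K (fun g hg => hK (mem_sup_left hg)) hK'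
  have hpair : ∀ N N' : AddSubgroup (Additive ↥(sec U₁ Z₁)), IsIrred ρ H N → IsIrred ρ H N' →
      ∀ x ∈ N, ∀ y ∈ N', Δ (ω x y) = 0 := by
    intro N N' hN hN' x₀ hx₀ y₀ hy₀
    by_contra hne
    obtain ⟨ψ, hψ⟩ := exists_functional hexpW hne
    set B := ω.compr₂ (ψ.comp (Δ : Additive ↥(sec ⁅U₁, U₁⁆ (⊥ : Subgroup G)) →+ _)) with hBdef
    have hB : ∀ x y, B x y = ψ (Δ (ω x y)) := fun _ _ => rfl
    have hinv : ∀ g ∈ H, ∀ x y, B (ρ g x) (ρ g y) = B x y := by
      let St : Subgroup G :=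
        { carrier := {g | ∀ x y, B (ρ g x) (ρ g y) = B x y}
          one_mem' := fun x y => by rw [map_one]; rfl
          mul_mem' := by
            intro g g' hg hg' x y
            rw [map_mul]
            show B (ρ g (ρ g' x)) (ρ g (ρ g' y)) = _
            rw [hg, hg']
          inv_mem' := by
            intro g hg x y
            have h1 := hg (ρ g⁻¹ x) (ρ g⁻¹ y)
            rw [act_inv_act, act_inv_act] at h1
            exact h1.symm }
      suffices hle : H ≤ St from fun g hg => hle hg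
      refine sup_le (fun g hg x y => ?_) (zpowers_le.2 fun x y => ?_)
      · rw [hB, hB, hω.equiv, show act ⁅U₁, U₁⁆ ⊥ g = 1 from hg]
        rfl
      · have hsq : Δ (Δ (ω x y)) = 0 := by
          obtain ⟨w, hw⟩ := cl_surj (ω x y)
          rw [← hw, hΔ, hσ, diff_cl, diff_cl]
          exact cl_eq_zero.2 (mem_bot.2 (h.quadratic hS hQS ((commutator_le_self U₁).trans hc.le)
            hc.comm_comm hc.commute_Q a ha a ha w w.2))
        rw [hB, hB, hω.equiv, ← hσ]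
        have e : σ a (ω x y) = ω x y + Δ (ω x y) := by
          show _ = ω x y + (σ a (ω x y) - ω x y)
          abel
        rw [e, map_add, hsq, add_zero]
    -- the radicals
    have hl0 : ∀ x ∈ N, (∀ y ∈ N', B x y = 0) → x = 0 := by
      let L : AddSubgroup (Additive ↥(sec U₁ Z₁)) :=
        { carrier := {x | x ∈ N ∧ ∀ y ∈ N', B x y = 0}
          zero_mem' := ⟨zero_mem _, fun y _ => by rw [map_zero]; rfl⟩
          add_mem' := fun hx hy => ⟨add_mem hx.1 hy.1, fun z hz => by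
            rw [map_add, AddMonoidHom.add_apply, hx.2 z hz, hy.2 z hz, add_zero]⟩
          neg_mem' := fun hx => ⟨neg_mem hx.1, fun z hz => by
            rw [map_neg, AddMonoidHom.neg_apply, hx.2 z hz, neg_zero]⟩ }
      have hLi : ∀ g ∈ H, ∀ x ∈ L, ρ g x ∈ L := by
        rintro g hg x ⟨hx, hx'⟩
        refine ⟨hN.2.1 g hg x hx, fun y hy => ?_⟩
        rw [← act_inv_act ρ g y, hinv g hg]
        exact hx' _ (hN'.2.1 _ (inv_mem hg) y hy)
      rcases hN.2.2 L (fun x hx => hx.1) hLi with e | e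
      · intro x hx hx'
        rw [← AddSubgroup.mem_bot, ← e]
        exact ⟨hx, hx'⟩
      · exact absurd ((e.symm.le hx₀).2 y₀ hy₀) hψ
    have hr0 : ∀ y ∈ N', (∀ x ∈ N, B x y = 0) → y = 0 := by
      let L : AddSubgroup (Additive ↥(sec U₁ Z₁)) :=
        { carrier := {y | y ∈ N' ∧ ∀ x ∈ N, B x y = 0}
          zero_mem' := ⟨zero_mem _, fun x _ => map_zero _⟩
          add_mem' := fun hx hy => ⟨add_mem hx.1 hy.1, fun z hz => by
            rw [map_add, hx.2 z hz, hy.2 z hz, add_zero]⟩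
          neg_mem' := fun hx => ⟨neg_mem hx.1, fun z hz => by
            rw [map_neg, hx.2 z hz, neg_zero]⟩ }
      have hLi : ∀ g ∈ H, ∀ y ∈ L, ρ g y ∈ L := by
        rintro g hg y ⟨hy, hy'⟩
        refine ⟨hN'.2.1 g hg y hy, fun x hx => ?_⟩
        rw [← act_inv_act ρ g x, hinv g hg]
        exact hy' _ (hN.2.1 _ (inv_mem hg) x hx)
      rcases hN'.2.2 L (fun x hx => hx.1) hLi with e | e
      · intro y hy hy'
        rw [← AddSubgroup.mem_bot, ← e]
        exact ⟨hy, hy'⟩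
      · exact absurd ((e.symm.le hy₀).2 x₀ hx₀) hψ
    have haH : a ∈ H := mem_sup_right (mem_zpowers a)
    let aN : AddMonoid.End ↥N := AddMonoidHom.mk' (fun x => ⟨ρ a x, hN.2.1 a haH x x.2⟩)
      fun x y => Subtype.ext (map_add (ρ a) (x : Additive ↥(sec U₁ Z₁)) y)
    let aN' : AddMonoid.End ↥N' := AddMonoidHom.mk' (fun x => ⟨ρ a x, hN'.2.1 a haH x x.2⟩)
      fun x y => Subtype.ext (map_add (ρ a) (x : Additive ↥(sec U₁ Z₁)) y)
    let b₀ : ↥N →+ ↥N' →+ ZMod p := AddMonoidHom.mk' (fun x => (B x).comp N'.subtype)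
      fun x y => AddMonoidHom.ext fun z => by
        show B ((x : Additive ↥(sec U₁ Z₁)) + y) z = B x z + B y z
        rw [map_add, AddMonoidHom.add_apply]
    let b₁ : ↥N →+ ↥N' →+ ZMod p := AddMonoidHom.mk' (fun x => (ψ.comp (ω x)).comp N'.subtype)
      fun x y => AddMonoidHom.ext fun z => by
        show ψ (ω ((x : Additive ↥(sec U₁ Z₁)) + y) z) = ψ (ω x z) + ψ (ω y z)
        rw [map_add, AddMonoidHom.add_apply, map_add]
    have hb₀ : ∀ (u : ↥N) (v : ↥N'),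
        b₀ u v = B (u : Additive ↥(sec U₁ Z₁)) (v : Additive ↥(sec U₁ Z₁)) := fun _ _ => rfl
    have hb₁ : ∀ (u : ↥N) (v : ↥N'),
        b₁ u v = ψ (ω (u : Additive ↥(sec U₁ Z₁)) (v : Additive ↥(sec U₁ Z₁))) := fun _ _ => rfl
    have haN : ∀ u : ↥N, ((aN u : ↥N) : Additive ↥(sec U₁ Z₁)) = ρ a u := fun _ => rfl
    have haN' : ∀ u : ↥N', ((aN' u : ↥N') : Additive ↥(sec U₁ Z₁)) = ρ a u := fun _ => rfl
    clear_value b₀ b₁
    have hT : (aN - 1) ^ 6 = 0 := by
      have hcoe : ∀ (k : ℕ) (x : ↥N), ((((aN - 1) ^ k) x : ↥N) : Additive ↥(sec U₁ Z₁)) =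
          ((ρ a - 1) ^ k) x := by
        intro k
        induction k with
        | zero => exact fun x => rfl
        | succ k ih =>
          intro x
          rw [pow_succ', pow_succ']
          show ρ a ((((aN - 1) ^ k) x : ↥N) : Additive ↥(sec U₁ Z₁)) -
            ((((aN - 1) ^ k) x : ↥N) : Additive ↥(sec U₁ Z₁)) = (ρ a - 1) (((ρ a - 1) ^ k) x)
          rw [ih]
          rfl
      refine AddMonoidHom.ext fun x => Subtype.ext ((hcoe 6 x).trans ?_)
      rw [hρ, hω.act_pow_six hc h hS hQS ha]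
      rfl
    have h0 := subsingleton_of_coboundary (p := p) (fun v : ↥N => Subtype.ext (hexpV v))
      (fun v : ↥N' => Subtype.ext (hexpV v)) aN aN' b₀ b₁
      (fun u v => by rw [hb₀, hb₀, haN, haN']; exact hinv a haH u v) (fun u v => ?_)
      (fun u hu => Subtype.ext (hl0 u u.2 fun y hy => by
        have h1 := hb₀ u ⟨y, hy⟩
        rw [hu] at h1
        exact h1.symm))
      (fun v hv => Subtype.ext (hr0 v v.2 fun x hx => by
        have h1 := hb₀ ⟨x, hx⟩ v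
        rw [hv ⟨x, hx⟩] at h1
        exact h1.symm)) hp hT ⟨x₀, hx₀⟩
    · have hx0 : x₀ = 0 := congrArg Subtype.val h0
      rw [hx0, map_zero, AddMonoidHom.zero_apply, map_zero] at hne
      exact hne rfl
    · rw [hb₁, hb₁, hb₀, hB, haN, haN']
      rw [hω.equiv, ← hσ, ← map_add]
      congr 1
      show _ = ω (u : Additive ↥(sec U₁ Z₁)) v + (σ a (ω (u : Additive ↥(sec U₁ Z₁)) v) -
        ω (u : Additive ↥(sec U₁ Z₁)) v)
      abel
  intro x y
  have h1 : ∀ N, IsIrred ρ H N → ∀ x ∈ N, ∀ y, Δ (ω x y) = 0 := by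
    intro N hN x hx
    have hle : ∀ N', IsIrred ρ H N' →
        N' ≤ ((Δ : Additive ↥(sec ⁅U₁, U₁⁆ (⊥ : Subgroup G)) →+ _).comp (ω x)).ker :=
      fun N' hN' y hy => hpair N N' hN hN' x hx y hy
    have htop := hgen.symm.le.trans (sSup_le hle)
    exact fun y => htop (AddSubgroup.mem_top y)
  have hle : ∀ N, IsIrred ρ H N →
      N ≤ ((Δ : Additive ↥(sec ⁅U₁, U₁⁆ (⊥ : Subgroup G)) →+ _).comp (ω.flip y)).ker :=
    fun N hN x hx => h1 N hN x hx y
  exact (hgen.symm.le.trans (sSup_le hle)) (AddSubgroup.mem_top x)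

end CfsgLib.JTransfer
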