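import Cfsg.Agent.Lib.JTransfer.Pairing

/-!
# The class two core

A minimal noncentral normal subgroup `U₁` of a class two group `U`, its chief factor `U₁/Z₁` and
the commutator form with values in `⁅U₁, U₁⁆`.
-/

set_option autoImplicit false
set_option linter.unusedSectionVars false

open Subgroup
open scoped commutatorElement IsMulCommutative

namespace CfsgLib.JTransfer

open CfsgLib.Techniques CfsgLib.Techniques.Fusion CfsgLib.Techniques.KInf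

variable {G : Type*} [Group G]

/-- A normal subgroup `U₁` of `Q` with a chief factor over a subgroup `Z₁` centralising it. -/
structure Core (Q U₁ Z₁ : Subgroup G) : Prop where
  le : U₁ ≤ Q
  chief : Cfsg.IsChiefFactor U₁ Z₁
  comQ : ⁅U₁, Q⁆ ≤ Z₁
  cen : ∀ z ∈ Z₁, ∀ u ∈ U₁, Commute z u

/-- A class two group without noncentral abelian normal subgroups has a core. -/
theorem exists_core [Finite G] {p : ℕ} [Fact p.Prime] {Q U : Subgroup G} [Q.Normal] [U.Normal]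
    (hQ : IsPGroup p Q) (hUQ : U ≤ Q)
    (hnone : ∀ B : Subgroup G, B.Normal → B ≤ Q → (∀ x ∈ B, ∀ y ∈ B, Commute x y) →
      B ≤ centralizer (U : Set G))
    (hna : ¬ U ≤ centralizer (U : Set G)) :
    ⁅U, U⁆ ≤ centralizer (U : Set G) ∧ ∃ U₁ : Subgroup G, U₁.Normal ∧ U₁ ≤ U ∧
      ¬ U₁ ≤ centralizer (U : Set G) ∧ Core Q U₁ (U₁ ⊓ centralizer (U : Set G)) := by
  classical
  have hclass : ⁅U, U⁆ ≤ centralizer (U : Set G) := by
    by_contra hc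
    obtain ⟨B, ⟨hBn, hBU, hBC⟩, hmin⟩ := Set.Finite.exists_minimal
      (s := {B : Subgroup G | B.Normal ∧ B ≤ ⁅U, U⁆ ∧ ¬ B ≤ centralizer (U : Set G)})
      (Set.toFinite _) ⟨⁅U, U⁆, inferInstance, le_rfl, hc⟩
    haveI := hBn
    have hBUle : B ≤ U := hBU.trans (commutator_le_self U)
    have hBne : B ≠ ⊥ := fun e => hBC (e ▸ bot_le)
    have h1 : ⁅B, U⁆ ≤ centralizer (U : Set G) := by
      by_contra h
      exact commutator_ne hQ (hBUle.trans hUQ) hUQ hBne (le_antisymm (commutator_le_left _ _)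
        (hmin ⟨inferInstance, (commutator_le_left _ _).trans hBU, h⟩ (commutator_le_left _ _)))
    have h2 : ⁅⁅B, U⁆, U⁆ = ⊥ := commutator_eq_bot_iff_le_centralizer.2 h1
    have h2' : ⁅⁅U, B⁆, U⁆ = ⊥ := by rw [commutator_comm U B]; exact h2
    have h3 : ⁅⁅U, U⁆, B⁆ = ⊥ := commutator_commutator_eq_bot_of_rotate h2' h2
    have h4 : B ≤ centralizer (B : Set G) :=
      hBU.trans ((commutator_eq_bot_iff_le_centralizer.1 h3))
    exact hBC (hnone B hBn (hBUle.trans hUQ) fun x hx y hy => mem_centralizer_iff.1 (h4 hy) x hx)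
  refine ⟨hclass, ?_⟩
  obtain ⟨U₁, ⟨hn, hU₁U, hU₁C⟩, hmin⟩ := Set.Finite.exists_minimal
    (s := {B : Subgroup G | B.Normal ∧ B ≤ U ∧ ¬ B ≤ centralizer (U : Set G)})
    (Set.toFinite _) ⟨U, inferInstance, le_rfl, hna⟩
  haveI := hn
  refine ⟨U₁, hn, hU₁U, hU₁C, hU₁U.trans hUQ, ⟨lt_of_le_of_ne inf_le_left fun e =>
      hU₁C (e.symm.le.trans inf_le_right), hn, inferInstance, fun N hN h1 h2 => ?_⟩,
    le_inf (commutator_le_left _ _) ?_,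
    fun z hz u hu => (mem_centralizer_iff.1 hz.2 u (hU₁U hu)).symm⟩
  · by_cases hc : N ≤ centralizer (U : Set G)
    · exact Or.inl (le_antisymm (le_inf h2 hc) h1)
    · exact Or.inr (le_antisymm h2 (hmin ⟨hN, h2.trans hU₁U, hc⟩ h2))
  · by_contra hc
    exact commutator_ne hQ (hU₁U.trans hUQ) le_rfl (fun e => hU₁C (e ▸ bot_le))
      (le_antisymm (commutator_le_left _ _)
        (hmin ⟨inferInstance, (commutator_le_left _ _).trans hU₁U, hc⟩ (commutator_le_left _ _)))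

variable {Q U₁ Z₁ : Subgroup G}

theorem Core.comm_le (hc : Core Q U₁ Z₁) : ⁅U₁, U₁⁆ ≤ Z₁ :=
  (commutator_mono le_rfl hc.le).trans hc.comQ

theorem Core.comm_comm (hc : Core Q U₁ Z₁) :
    ∀ x ∈ ⁅U₁, U₁⁆, ∀ y ∈ ⁅U₁, U₁⁆, Commute x y := fun x hx y hy =>
  hc.cen x (hc.comm_le hx) y (commutator_le_self U₁ hy)

theorem Core.sec_comm_top (hc : Core Q U₁ Z₁) [Z₁.Normal] : IsMulCommutative ↥(sec U₁ Z₁) :=
  sec_comm hc.comm_le

theorem Core.sec_comm_bot (hc : Core Q U₁ Z₁) :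
    IsMulCommutative ↥(sec ⁅U₁, U₁⁆ (⊥ : Subgroup G)) := by
  refine sec_comm ?_
  rw [commutator_le]
  exact fun x hx y hy => mem_bot.2 (commutatorElement_eq_one_iff_mul_comm.2 (hc.comm_comm x hx y hy))

theorem Core.commute_Q (hc : Core Q U₁ Z₁) : ∀ w ∈ ⁅U₁, U₁⁆, ∀ q ∈ Q, Commute q w := by
  have h0 : ⁅Z₁, U₁⁆ = ⊥ := commutator_eq_bot_iff_le_centralizer.2 fun z hz =>
    mem_centralizer_iff.2 fun u hu => (hc.cen z hz u hu).symm
  have h1 : ⁅⁅U₁, Q⁆, U₁⁆ = ⊥ := le_bot_iff.1 (h0 ▸ commutator_mono hc.comQ le_rfl)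
  have h2 : ⁅⁅Q, U₁⁆, U₁⁆ = ⊥ := by rw [commutator_comm Q U₁]; exact h1
  have h3 : ⁅⁅U₁, U₁⁆, Q⁆ = ⊥ := commutator_commutator_eq_bot_of_rotate h1 h2
  intro w hw q hq
  exact mem_centralizer_iff.1 (commutator_eq_bot_iff_le_centralizer.1 h3 hw) q hq

/-- The commutator form of the core. -/
structure IsForm [U₁.Normal] [Z₁.Normal] [IsMulCommutative ↥(sec U₁ Z₁)]
    [IsMulCommutative ↥(sec ⁅U₁, U₁⁆ (⊥ : Subgroup G))]
    (ω : Additive ↥(sec U₁ Z₁) →+ Additive ↥(sec U₁ Z₁) →+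
      Additive ↥(sec ⁅U₁, U₁⁆ (⊥ : Subgroup G))) : Prop where
  apply : ∀ u v : ↥U₁,
    ω (cl Z₁ u) (cl Z₁ v) = cl ⊥ ⟨⁅(u : G), (v : G)⁆, commutator_mem_commutator u.2 v.2⟩
  equiv : ∀ (g : G) x y, ω (act U₁ Z₁ g x) (act U₁ Z₁ g y) = act ⁅U₁, U₁⁆ ⊥ g (ω x y)
  alt : ∀ x, ω x x = 0
  spans : ∀ g : G, (∀ x y, act ⁅U₁, U₁⁆ ⊥ g (ω x y) = ω x y) → act ⁅U₁, U₁⁆ ⊥ g = 1

variable [U₁.Normal] [Z₁.Normal] [IsMulCommutative ↥(sec U₁ Z₁)]
  [IsMulCommutative ↥(sec ⁅U₁, U₁⁆ (⊥ : Subgroup G))]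

theorem Core.exists_form (hc : Core Q U₁ Z₁) :
    ∃ ω : Additive ↥(sec U₁ Z₁) →+ Additive ↥(sec U₁ Z₁) →+
      Additive ↥(sec ⁅U₁, U₁⁆ (⊥ : Subgroup G)), IsForm ω := by
  classical
  have hcm : ∀ u ∈ U₁, ∀ w ∈ ⁅U₁, U₁⁆, ⁅u, w⁆ ∈ (⊥ : Subgroup G) := fun u hu w hw =>
    mem_bot.2 (commutatorElement_eq_one_iff_mul_comm.2 (hc.commute_Q w hw u (hc.le hu)))
  have hW : ∀ u ∈ U₁, ∀ b ∈ U₁, ⁅u, b⁆ ∈ ⁅U₁, U₁⁆ := fun u hu b hb =>
    commutator_mem_commutator hu hb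
  obtain ⟨ω, hω, heq⟩ := exists_pairing hW hcm hcm (U₀ := Z₁) (B₀ := Z₁)
    (fun u _ hu b hb => mem_bot.2 (commutatorElement_eq_one_iff_mul_comm.2 (hc.cen u hu b hb)))
    (fun u hu b _ hb => mem_bot.2 (commutatorElement_eq_one_iff_mul_comm.2 (hc.cen b hb u hu).symm))
  refine ⟨ω, hω, heq, fun x => ?_, fun g hg => ?_⟩
  · obtain ⟨u, rfl⟩ := cl_surj x
    rw [hω]
    exact cl_eq_zero.2 (mem_bot.2 (commutatorElement_self _))
  · refine AddMonoidHom.ext fun v => ?_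
    obtain ⟨w, rfl⟩ := cl_surj v
    obtain ⟨w, hw⟩ := w
    show act _ ⊥ g (cl ⊥ (⟨w, hw⟩ : ↥⁅U₁, U₁⁆)) = cl ⊥ ⟨w, hw⟩
    have hle : ⁅U₁, U₁⁆ ≤ centralizer ({g} : Set G) := by
      rw [commutator_le]
      intro u hu v hv
      have h1 := hg (cl Z₁ ⟨u, hu⟩) (cl Z₁ ⟨v, hv⟩)
      rw [hω, comCl, act_cl, cl_eq_cl, mem_bot] at h1
      rw [mem_centralizer_singleton_iff]
      have h2 : g * ⁅u, v⁆ * g⁻¹ = ⁅u, v⁆ := inv_mul_eq_one.1 h1
      exact (mul_inv_eq_iff_eq_mul.1 h2).symm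
    rw [act_cl, cl_eq_cl, mem_bot, inv_mul_eq_one, mul_inv_eq_iff_eq_mul]
    exact (mem_centralizer_singleton_iff.1 (hle hw)).symm

theorem IsForm.smul_eq_zero {p : ℕ} [Fact p.Prime] [Finite G] (hc : Core Q U₁ Z₁)
    (hU : IsPGroup p U₁) :
    (∀ v : Additive ↥(sec U₁ Z₁), p • v = 0) ∧
      ∀ v : Additive ↥(sec ⁅U₁, U₁⁆ (⊥ : Subgroup G)), p • v = 0 := by
  have h1 : ∀ v : Additive ↥(sec U₁ Z₁), p • v = 0 :=
    smul_cl_eq_zero fun u hu => chiefFactor_pow_mem hc.chief hU hu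
  refine ⟨h1, ?_⟩
  obtain ⟨ω, hω⟩ := hc.exists_form
  let K : Subgroup G :=
    { carrier := {w | ∃ hw : w ∈ ⁅U₁, U₁⁆, p • cl (⊥ : Subgroup G) (⟨w, hw⟩ : ↥⁅U₁, U₁⁆) = 0}
      one_mem' := ⟨one_mem _, by
        rw [show (⟨1, one_mem _⟩ : ↥⁅U₁, U₁⁆) = 1 from rfl, cl_one, nsmul_zero]⟩
      mul_mem' := by
        rintro a b ⟨ha, ha'⟩ ⟨hb, hb'⟩
        exact ⟨mul_mem ha hb, by
          rw [show (⟨a * b, mul_mem ha hb⟩ : ↥⁅U₁, U₁⁆) = ⟨a, ha⟩ * ⟨b, hb⟩ from rfl, cl_mul,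
            nsmul_add, ha', hb', add_zero]⟩
      inv_mem' := by
        rintro a ⟨ha, ha'⟩
        exact ⟨inv_mem ha, by
          rw [show (⟨a⁻¹, inv_mem ha⟩ : ↥⁅U₁, U₁⁆) = (⟨a, ha⟩ : ↥⁅U₁, U₁⁆)⁻¹ from rfl, cl_inv,
            neg_nsmul, ha', neg_zero]⟩ }
  have hle : ⁅U₁, U₁⁆ ≤ K := by
    rw [commutator_le]
    intro u hu v hv
    refine ⟨commutator_mem_commutator hu hv, ?_⟩
    rw [← hω.apply ⟨u, hu⟩ ⟨v, hv⟩, ← map_nsmul, h1, map_zero]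
  intro v
  obtain ⟨w, rfl⟩ := cl_surj v
  exact (hle w.2).2

variable {ω : Additive ↥(sec U₁ Z₁) →+ Additive ↥(sec U₁ Z₁) →+
  Additive ↥(sec ⁅U₁, U₁⁆ (⊥ : Subgroup G))}

/-- The derivative rule for the form. -/
theorem IsForm.expand (hω : IsForm ω) (g : G) (x y : Additive ↥(sec U₁ Z₁)) :
    ω ((act U₁ Z₁ g - 1) x) y + ω x ((act U₁ Z₁ g - 1) y) +
      ω ((act U₁ Z₁ g - 1) x) ((act U₁ Z₁ g - 1) y) = (act ⁅U₁, U₁⁆ ⊥ g - 1) (ω x y) := by
  show ω (act U₁ Z₁ g x - x) y + ω x (act U₁ Z₁ g y - y) +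
      ω (act U₁ Z₁ g x - x) (act U₁ Z₁ g y - y) = act ⁅U₁, U₁⁆ ⊥ g (ω x y) - ω x y
  rw [← hω.equiv g x y]
  simp only [map_sub, AddMonoidHom.sub_apply]
  abel

theorem IsForm.act_eq_one (hω : IsForm ω) {g : G} (h : act U₁ Z₁ g = 1) :
    act ⁅U₁, U₁⁆ ⊥ g = 1 :=
  hω.spans g fun x y => by rw [← hω.equiv, h]; rfl

variable [Finite G] {p : ℕ} [Fact p.Prime] {S A : Subgroup G} [Q.Normal]

/-- Degree six. -/
theorem IsForm.nil_six (hω : IsForm ω) (hc : Core Q U₁ Z₁) (h : Chosen S Q A) (hS : IsPGroup p S)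
    (hQS : Q ≤ S) : Nil (fun a : ↥A => act U₁ Z₁ (a : G) - 1) 6 := by
  classical
  refine CfsgLib.JTransfer.nil_six (Δ := fun a : ↥A => act ⁅U₁, U₁⁆ ⊥ (a : G) - 1) (ω := ω)
    (fun a x y => hω.expand _ x y) (fun z hz a b e => ?_) (fun a b w => ?_) ?_
  · obtain ⟨u, rfl⟩ := cl_surj z
    simp only [diff_cl] at hz ⊢
    refine cl_eq_zero.2 (h.cubic hS hQS hc.le hc.comQ u.2 (fun a ha b hb => ?_) a a.2 b b.2 e e.2)
    have h1 := hz ⟨a, ha⟩ ⟨b, hb⟩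
    rw [hω.apply] at h1
    exact cl_eq_zero.1 h1
  · obtain ⟨w, rfl⟩ := cl_surj w
    simp only [diff_cl]
    exact cl_eq_zero.2 (mem_bot.2 (h.quadratic hS hQS ((commutator_le_self U₁).trans hc.le)
      hc.comm_comm hc.commute_Q a a.2 b b.2 w w.2))
  · have : Group.IsNilpotent ↥S := hS.isNilpotent
    obtain ⟨n, hn⟩ := (Subgroup.isNilpotent_iff_lowerCentralSeries S).1
      (inferInstance : Group.IsNilpotent ↥S)
    have key : ∀ (l : List ↥A) (u : ↥U₁), ∃ v : ↥U₁,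
        opProd (fun a : ↥A => act U₁ Z₁ (a : G) - 1) l (cl Z₁ u) = cl Z₁ v ∧
          (v : G) ∈ Subgroup.lowerCentralSeries S l.length := by
      intro l
      induction l with
      | nil => exact fun u => ⟨u, rfl, hQS (hc.le u.2)⟩
      | cons a l ih =>
        intro u
        obtain ⟨v, hv, hv'⟩ := ih u
        refine ⟨⟨⁅(a : G), (v : G)⁆, commutator_mem_of_normal U₁ _ v.2⟩, ?_, ?_⟩
        · rw [opProd_cons, hv, diff_cl]
        · show ⁅(a : G), (v : G)⁆ ∈ _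
          rw [List.length_cons, Subgroup.lowerCentralSeries_succ, ← commutatorElement_inv]
          exact inv_mem (commutator_mem_commutator hv' (h.isMax.le a.2))
    refine ⟨n, fun l hl v => ?_⟩
    obtain ⟨u, rfl⟩ := cl_surj v
    obtain ⟨v, hv, hv'⟩ := key l u
    rw [hl, hn, mem_bot] at hv'
    rw [hv]
    exact cl_eq_zero.2 (by rw [hv']; exact one_mem _)

theorem IsForm.act_pow_six (hω : IsForm ω) (hc : Core Q U₁ Z₁) (h : Chosen S Q A)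
    (hS : IsPGroup p S) (hQS : Q ≤ S) {a : G} (ha : a ∈ A) : (act U₁ Z₁ a - 1) ^ 6 = 0 := by
  refine AddMonoidHom.ext fun v => ?_
  have h1 := hω.nil_six hc h hS hQS (List.replicate 6 ⟨a, ha⟩) (by simp) v
  rw [opProd, List.map_replicate, List.prod_replicate] at h1
  exact h1

/-- If `A` centralises the values, degree four. -/
theorem IsForm.deg_four (hω : IsForm ω) (hc : Core Q U₁ Z₁) (h : Chosen S Q A) (hS : IsPGroup p S)
    (hQS : Q ≤ S) (hp : p ≠ 2) (htriv : ∀ a ∈ A, act ⁅U₁, U₁⁆ ⊥ a = 1) {a : G} (ha : a ∈ A) :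
    Deg a 4 U₁ Z₁ := by
  have hU : IsPGroup p U₁ := (hS.to_le hQS).to_le hc.le
  have hexp := (IsForm.smul_eq_zero (p := p) hc hU).2
  have h4 : Nil (fun a : ↥A => act U₁ Z₁ (a : G) - 1) 4 := by
    refine CfsgLib.JTransfer.nil_four (Δ := fun a : ↥A => act ⁅U₁, U₁⁆ ⊥ (a : G) - 1) (ω := ω)
      (fun a x y => hω.expand _ x y) (fun z hz a b e => ?_)
      (fun a w => by
        show (act ⁅U₁, U₁⁆ ⊥ (a : G) - 1) w = 0
        rw [htriv a a.2, sub_self]; rfl)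
      hω.alt (fun a b => ?_) (fun w hw => ?_) (hω.nil_six hc h hS hQS)
    · obtain ⟨u, rfl⟩ := cl_surj z
      simp only [diff_cl] at hz ⊢
      refine cl_eq_zero.2 (h.cubic hS hQS hc.le hc.comQ u.2 (fun a ha b hb => ?_) a a.2 b b.2 e e.2)
      have h1 := hz ⟨a, ha⟩ ⟨b, hb⟩
      rw [hω.apply] at h1
      exact cl_eq_zero.1 h1
    · have e : Commute (act U₁ Z₁ (a : G)) (act U₁ Z₁ (b : G)) := by
        show act U₁ Z₁ (a : G) * act U₁ Z₁ (b : G) = _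
        rw [← map_mul, PLocal.elemAb_commute h.isMax.elem a.2 b.2, map_mul]
      exact ((e.sub_left (Commute.one_left _)).sub_right
        ((Commute.one_right _).sub_left (Commute.one_left _))).eq
    · have h1 : addOrderOf w = 1 := Nat.eq_one_of_dvd_coprimes
        ((Nat.coprime_primes (Fact.out : p.Prime) Nat.prime_two).2 hp)
        (addOrderOf_dvd_of_nsmul_eq_zero (hexp w))
        (addOrderOf_dvd_of_nsmul_eq_zero (by rw [two_nsmul]; exact hw))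
      exact AddMonoid.addOrderOf_eq_one_iff.1 h1
  rw [deg_iff]
  refine AddMonoidHom.ext fun v => ?_
  have h1 := h4 (List.replicate 4 ⟨a, ha⟩) (by simp) v
  rw [opProd, List.map_replicate, List.prod_replicate] at h1
  exact h1

end CfsgLib.JTransfer
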