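import Cfsg.Agent.Lib.LocalEven.MinPar.Decomp

/-!
# A central involution which is a commutator of two elements squaring to it

In odd characteristic a decomposition into factors `SL₂(q)` gives elements `i`, `j` whose squares and
commutator are the product of the central involutions of the factors.
-/

set_option autoImplicit false
set_option linter.unusedSectionVars false

open Subgroup
open scoped MatrixGroups commutatorElement

namespace CfsgLib.JTransfer

open CfsgLib.LocalEven.PGV CfsgLib.LocalEven.OffenderSL2 CfsgLib.LocalEven.MinPar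

theorem sl2_sq {F : Type*} [Field F] (h2 : (2 : F) ≠ 0) (x : SL(2, F)) (hx : x * x = 1) :
    x = 1 ∨ x = -1 := by
  have hd : x.1.det = 1 := x.2
  rw [Matrix.det_fin_two] at hd
  have e : x.1 * x.1 = 1 := congrArg Subtype.val hx
  have e00 : x.1 0 0 * x.1 0 0 + x.1 0 1 * x.1 1 0 = 1 := by
    have := congrFun (congrFun e 0) 0
    simpa [Matrix.mul_apply, Fin.sum_univ_two] using this
  have e01 : x.1 0 0 * x.1 0 1 + x.1 0 1 * x.1 1 1 = 0 := by
    have := congrFun (congrFun e 0) 1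
    simpa [Matrix.mul_apply, Fin.sum_univ_two] using this
  have e10 : x.1 1 0 * x.1 0 0 + x.1 1 1 * x.1 1 0 = 0 := by
    have := congrFun (congrFun e 1) 0
    simpa [Matrix.mul_apply, Fin.sum_univ_two] using this
  have hs : x.1 0 0 * (x.1 0 0 + x.1 1 1) = 2 := by linear_combination e00 + hd
  have hsne : x.1 0 0 + x.1 1 1 ≠ 0 := fun h => h2 (by rw [← hs, h, mul_zero])
  have hb : x.1 0 1 = 0 := (mul_eq_zero.1 (show x.1 0 1 * (x.1 0 0 + x.1 1 1) = 0 by
    linear_combination e01)).resolve_right hsne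
  have hc : x.1 1 0 = 0 := (mul_eq_zero.1 (show x.1 1 0 * (x.1 0 0 + x.1 1 1) = 0 by
    linear_combination e10)).resolve_right hsne
  rw [hb, zero_mul, add_zero] at e00
  rw [hb, zero_mul, sub_zero] at hd
  rcases mul_self_eq_one_iff.1 e00 with ha | ha
  · left
    rw [ha, one_mul] at hd
    apply Subtype.ext
    ext i j
    fin_cases i <;> fin_cases j <;> simp [ha, hb, hc, hd]
  · right
    rw [ha, neg_one_mul, neg_eq_iff_eq_neg] at hd
    apply Subtype.ext
    ext i j
    fin_cases i <;> fin_cases j <;> simp [ha, hb, hc, hd]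

theorem sl2_triple {F : Type*} [Field F] (a b : F) (hab : a ^ 2 + b ^ 2 = -1) :
    ∃ i j : SL(2, F), i * i = -1 ∧ j * j = -1 ∧ ⁅i, j⁆ = -1 := by
  refine ⟨⟨!![0, 1; -1, 0], by simp [Matrix.det_fin_two]⟩, ⟨!![a, b; b, -a], by
    rw [Matrix.det_fin_two]; simp; linear_combination -hab⟩, ?_, ?_, ?_⟩
  · apply Subtype.ext
    show !![(0 : F), 1; -1, 0] * !![(0 : F), 1; -1, 0] = -(1 : Matrix (Fin 2) (Fin 2) F)
    ext i j
    fin_cases i <;> fin_cases j <;> simp
  · apply Subtype.ext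
    show !![a, b; b, -a] * !![a, b; b, -a] = -(1 : Matrix (Fin 2) (Fin 2) F)
    ext i j
    fin_cases i <;> fin_cases j <;> simp
    · linear_combination hab
    · ring
    · ring
    · linear_combination hab
  · set x : SL(2, F) := ⟨!![(0 : F), 1; -1, 0], _⟩ with hx
    set y : SL(2, F) := ⟨!![a, b; b, -a], _⟩ with hy
    show x * y * x⁻¹ * y⁻¹ = -1
    rw [mul_inv_eq_iff_eq_mul, mul_inv_eq_iff_eq_mul, neg_one_mul, neg_mul]
    apply Subtype.ext
    show !![(0 : F), 1; -1, 0] * !![a, b; b, -a] = -(!![a, b; b, -a] * !![(0 : F), 1; -1, 0])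
    ext i j
    fin_cases i <;> fin_cases j <;> simp

universe v

variable {W : Type v} [AddCommGroup W] {p : ℕ} {P T : Subgroup (Γ W)}

theorem exists_triple_of_isSL2 [Fact p.Prime] (hp : p ≠ 2) {E : Subgroup (Γ W)} (hE : IsSL2 p E) :
    ∃ i j t : ↥E, i * i = t ∧ j * j = t ∧ ⁅i, j⁆ = t ∧ t ≠ 1 ∧ t * t = 1 ∧
      (∀ x, Commute t x) ∧ ∀ x : ↥E, x * x = 1 → x = 1 ∨ x = t := by
  classical
  obtain ⟨F, _, _, n, ρ, -, hn, hcard, -⟩ := hE
  have hpp : p.Prime := Fact.out
  have hp0 : (p : F) = 0 := by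
    have h := Nat.cast_card_eq_zero F
    rw [hcard, Nat.cast_pow] at h
    exact eq_zero_of_pow_eq_zero h
  haveI : CharP F p := (CharP.charP_iff_prime_eq_zero hpp).2 hp0
  have h2 : (2 : F) ≠ 0 := Ring.two_ne_zero (by rwa [ringChar.eq F p])
  obtain ⟨a, b, hab⟩ := ZMod.sq_add_sq p (-1)
  obtain ⟨i, j, hi, hj, hij⟩ := sl2_triple (ZMod.castHom (dvd_refl p) F a)
    (ZMod.castHom (dvd_refl p) F b) (by rw [← map_pow, ← map_pow, ← map_add, hab, map_neg, map_one])
  have hne : (-1 : SL(2, F)) ≠ 1 := by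
    intro h
    have h1 : ((-1 : SL(2, F)).1) 0 0 = (1 : SL(2, F)).1 0 0 := by rw [h]
    simp at h1
    exact h2 (by linear_combination -h1)
  refine ⟨ρ.symm i, ρ.symm j, ρ.symm (-1), ?_, ?_, ?_, ?_, ?_, fun x => ?_, fun x hx => ?_⟩
  · rw [← map_mul, hi]
  · rw [← map_mul, hj]
  · rw [← map_commutatorElement, hij]
  · rw [ne_eq, ← map_one ρ.symm, ρ.symm.injective.eq_iff]
    exact hne
  · rw [← map_mul, neg_mul_neg, one_mul, map_one]
  · show ρ.symm (-1) * x = x * ρ.symm (-1)
    apply ρ.injective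
    rw [map_mul, map_mul, ρ.apply_symm_apply, neg_one_mul, mul_neg_one]
  · rcases sl2_sq h2 (ρ x) (by rw [← map_mul, hx, map_one]) with h | h
    · exact Or.inl (ρ.injective (by rw [h, map_one]))
    · exact Or.inr (ρ.injective (by rw [h, ρ.apply_symm_apply]))

theorem multiset_noncommProd_congr {β : Type*} [Monoid β] {s t : Multiset β}
    (hs : {x | x ∈ s}.Pairwise Commute) (ht : {x | x ∈ t}.Pairwise Commute) (e : s = t) :
    s.noncommProd hs = t.noncommProd ht := by subst e; rfl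

/-- The central involution and its two roots. -/
theorem exists_central_triple [Finite W] [Fact p.Prime] (hp : p ≠ 2) {r : ℕ}
    {E : Fin r → Subgroup (Γ W)} (hE : Decomp p P T r E) (hfull : Full p P E) :
    ∃ i₀ ∈ P, ∃ j₀ ∈ P, ∃ t₀ : Γ W, i₀ * i₀ = t₀ ∧ j₀ * j₀ = t₀ ∧ ⁅i₀, j₀⁆ = t₀ ∧ t₀ ≠ 1 ∧
      t₀ * t₀ = 1 ∧ ∀ g ∈ P, Commute g t₀ := by
  classical
  have hsl : ∀ k, IsSL2 p (E k) := fun k => (hE.model k).resolve_right fun h => hp h.1
  choose i j t hi hj hij ht1 ht2 htc huniq using fun k => exists_triple_of_isSL2 hp (hsl k)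
  have hcomm : Pairwise fun k l => ∀ x y : Γ W, x ∈ E k → y ∈ E l → Commute x y :=
    fun k l hkl x y hx hy => hE.comm k l hkl x hx y hy
  set Φ := Subgroup.noncommPiCoprod hcomm with hΦdef
  have hind : iSupIndep E := fun k => by
    rw [disjoint_iff]
    exact hE.disj k
  have hΦinj : Function.Injective Φ := Subgroup.injective_noncommPiCoprod_of_iSupIndep hind
  have hΦP : ∀ u, Φ u ∈ P := fun u => by
    rw [hΦdef, Subgroup.noncommPiCoprod_apply]
    exact Subgroup.noncommProd_mem _ _ fun k _ => hE.le k (u k).2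
  refine ⟨Φ i, hΦP i, Φ j, hΦP j, Φ t, ?_, ?_, ?_, ?_, ?_, ?_⟩
  · rw [← map_mul]
    exact congrArg Φ (funext hi)
  · rw [← map_mul]
    exact congrArg Φ (funext hj)
  · rw [← map_commutatorElement]
    exact congrArg Φ (funext fun k => hij k)
  · intro h
    have h1 : t = 1 := hΦinj (by rw [h, map_one])
    exact ht1 ⟨0, hE.pos⟩ (congrFun h1 _)
  · rw [← map_mul, show t * t = 1 from funext ht2, map_one]
  intro g hg
  choose σ hσ using hfull.1 g hg
  have hconj : ∀ k, g * (t k : Γ W) * g⁻¹ = t (σ k) := by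
    intro k
    have hmem : g * (t k : Γ W) * g⁻¹ ∈ E (σ k) := hσ k ▸ conj_mem_cj (t k).2
    rcases huniq (σ k) ⟨_, hmem⟩ (Subtype.ext (by
      show g * (t k : Γ W) * g⁻¹ * (g * (t k : Γ W) * g⁻¹) = 1
      have : ((t k : Γ W)) * t k = 1 := congrArg Subtype.val (ht2 k)
      rw [show g * (t k : Γ W) * g⁻¹ * (g * (t k : Γ W) * g⁻¹) = g * ((t k : Γ W) * t k) * g⁻¹ by group,
        this, mul_one, mul_inv_cancel])) with h | h
    · exfalso
      refine ht1 k (Subtype.ext ?_)
      have h1 : g * (t k : Γ W) * g⁻¹ = 1 := congrArg Subtype.val h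
      simpa using conj_eq_one_iff.1 h1
    · exact congrArg Subtype.val h
  have hσinj : Function.Injective σ := by
    intro k l e
    by_contra hne
    refine ht1 k (Subtype.ext ?_)
    have hkl : cj g (E k) = cj g (E l) := by rw [hσ k, hσ l, e]
    have hEE : E k = E l := Subgroup.map_injective (MulAut.conj g).injective hkl
    have h1 : (t k : Γ W) ∈ E k ⊓ ⨆ m ∈ {m | m ≠ k}, E m :=
      ⟨(t k).2, mem_iSup_of_mem l (mem_iSup_of_mem (Ne.symm hne) (hEE ▸ (t k).2))⟩
    rw [hE.disj k, mem_bot] at h1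
    exact h1
  have hσb : Function.Bijective σ := Finite.injective_iff_bijective.1 hσinj
  have key : g * Φ t * g⁻¹ = Φ t := by
    rw [hΦdef, Subgroup.noncommPiCoprod_apply]
    refine (Finset.map_noncommProd _ _ _ (MulAut.conj g).toMonoidHom).trans ?_
    unfold Finset.noncommProd
    apply multiset_noncommProd_congr
    have hmap : Finset.univ.map ⟨σ, hσinj⟩ = (Finset.univ : Finset (Fin r)) :=
      Finset.map_univ_equiv (Equiv.ofBijective σ hσb)
    conv_rhs => rw [← hmap, Finset.map_val, Multiset.map_map]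
    exact Multiset.map_congr rfl fun k _ => hconj k
  exact mul_inv_eq_iff_eq_mul.1 key

end CfsgLib.JTransfer
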