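import Cfsg.Prelude.Def_CaseTheorems
import Cfsg.Agent.S0633
import Cfsg.Agent.Lib.Techniques.Basic
import Cfsg.Agent.Lib.LocalEven.PGV.Basic

/-!
# Elements of small degree centralise what they normalise of order prime to `p`
-/

set_option autoImplicit false
set_option linter.unusedSectionVars false

open Subgroup

namespace CfsgLib.JTransfer

open CfsgLib.LocalEven.PGV

variable {p : ℕ} [Fact p.Prime] {V : Type*} [AddCommGroup V]

theorem pow_prime_eq_one [Nontrivial V] (hV : ∀ v : V, p • v = 0) (g : Γ V)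
    {k : ℕ} (hk : k ≤ p) (hdeg : ((g : AddMonoid.End V) - 1) ^ k = 0) : g ^ p = 1 := by
  have : Nontrivial (AddMonoid.End V) := by
    refine ⟨⟨0, 1, fun h => ?_⟩⟩
    obtain ⟨v, hv⟩ := exists_ne (0 : V)
    exact hv (DFunLike.congr_fun h v).symm
  have : CharP (AddMonoid.End V) p :=
    (CharP.charP_iff_prime_eq_zero (Fact.out : p.Prime)).2 (by
      ext v; simpa [AddMonoid.End.natCast_apply] using hV v)
  refine Units.ext ?_
  rw [Units.val_pow_eq_pow_val, Units.val_one, ← sub_eq_zero]
  conv_lhs => arg 2; rw [← one_pow p]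
  rw [← sub_pow_char_of_commute (p := p) (Commute.one_right _), ← Nat.add_sub_cancel' hk, pow_add,
    hdeg, zero_mul]

theorem commute_of_small_degree_aux [Module (ZMod p) V] [Finite V] [Nontrivial V] (hp : 7 ≤ p)
    (hV : ∀ v : V, p • v = 0) (N : Subgroup (Γ V)) (hN : (Nat.card N).Coprime p) (g : Γ V)
    (hgN : ∀ n ∈ N, g * n * g⁻¹ ∈ N) (hdeg : ((g : AddMonoid.End V) - 1) ^ 6 = 0) :
    ∀ n ∈ N, Commute g n := by
  classical
  rcases eq_or_ne g 1 with rfl | hg1
  · exact fun n _ => Commute.one_left n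
  have hpp : p.Prime := Fact.out
  haveI : Module.Finite (ZMod p) V := Module.Finite.of_finite
  haveI : Finite (V ≃ₗ[ZMod p] V) := DFunLike.finite _
  let Φ : Γ V →* (V ≃ₗ[ZMod p] V) :=
    { toFun := fun h =>
        { toFun := fun v => (h : AddMonoid.End V) v
          map_add' := fun a b => map_add (h : AddMonoid.End V) a b
          map_smul' := fun c v => ZMod.map_smul (h : AddMonoid.End V) c v
          invFun := fun v => ((h⁻¹ : Γ V) : AddMonoid.End V) v
          left_inv := fun v => DFunLike.congr_fun h.inv_val v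
          right_inv := fun v => DFunLike.congr_fun h.val_inv v }
      map_one' := LinearEquiv.ext fun _ => rfl
      map_mul' := fun a b => LinearEquiv.ext fun _ => rfl }
  have hΦ : Function.Injective Φ := fun a b h =>
    Units.ext (AddMonoidHom.ext fun v => LinearEquiv.congr_fun h v)
  have hgp : g ^ p = 1 := pow_prime_eq_one hV g (by omega) hdeg
  set H : Subgroup (V ≃ₗ[ZMod p] V) := (N ⊔ zpowers g).map Φ with hH
  haveI : Finite H := Subtype.finite
  set x : V ≃ₗ[ZMod p] V := Φ g with hxdef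
  have hxH : x ∈ H := mem_map_of_mem _ (mem_sup_right (mem_zpowers g))
  set N' : Subgroup H := (N.map Φ).subgroupOf H with hN'
  have hNH : N.map Φ ≤ H := map_mono le_sup_left
  haveI hN'n : N'.Normal := by
    refine (normal_subgroupOf_iff_le_normalizer hNH).2 ?_
    rw [hH, map_le_iff_le_comap]
    refine sup_le (fun n hn => le_normalizer (mem_map_of_mem Φ hn)) (zpowers_le.2 ?_)
    show Φ g ∈ normalizer ((N.map Φ : Subgroup _) : Set (V ≃ₗ[ZMod p] V))
    rw [← CfsgLib.Techniques.map_conj_eq_self_iff]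
    refine eq_of_le_of_card_ge ?_ (CfsgLib.Techniques.card_map_conj _ _).ge
    rintro _ ⟨_, ⟨n, hn, rfl⟩, rfl⟩
    exact ⟨g * n * g⁻¹, hgN n hn, by simp⟩
  have hN'c : (Nat.card N').Coprime p := by
    rw [Nat.card_congr (subgroupOfEquivOfLe hNH).toEquiv, card_map_of_injective hΦ]
    exact hN
  set π := QuotientGroup.mk' N' with hπ
  set xH : H := ⟨x, hxH⟩ with hxHdef
  have hgen : ∀ y : ↥H ⧸ N', y ∈ zpowers (π xH) := by
    intro y
    obtain ⟨⟨y, hy⟩, rfl⟩ := QuotientGroup.mk'_surjective N' y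
    have hy' : y ∈ N.map Φ ⊔ zpowers x := by
      rw [hxdef, ← MonoidHom.map_zpowers, ← Subgroup.map_sup]
      exact hy
    have hle : zpowers x ≤ normalizer ((N.map Φ : Subgroup _) : Set (V ≃ₗ[ZMod p] V)) := by
      rw [zpowers_le]
      exact (normal_subgroupOf_iff_le_normalizer hNH).1 hN'n hxH
    rw [sup_comm] at hy'
    obtain ⟨a, ha, b, hb, e⟩ := CfsgLib.Techniques.exists_mul_of_mem_sup hle hy'
    obtain ⟨i, rfl⟩ := mem_zpowers_iff.1 ha
    refine mem_zpowers_iff.2 ⟨i, ?_⟩
    rw [← map_zpow]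
    refine (QuotientGroup.eq (s := N')).2 ?_
    show ((xH ^ i)⁻¹ * ⟨y, hy⟩ : H) ∈ N'
    rw [hN', mem_subgroupOf]
    show (x ^ i)⁻¹ * y ∈ N.map Φ
    rw [← e, inv_mul_cancel_left]
    exact hb
  have hxp : (π xH) ^ p = 1 := by
    rw [← map_pow]
    have : xH ^ p = 1 := Subtype.ext (by
      show x ^ p = 1
      rw [hxdef, ← map_pow, hgp, map_one])
    rw [this, map_one]
  have hidx : N'.index ∣ p := by
    rw [index_eq_card, ← (orderOf_eq_card_of_forall_mem_zpowers hgen)]
    exact orderOf_dvd_of_pow_eq_one hxp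
  intro n hn
  by_contra hne
  have hnotcomm : ¬ ∀ m ∈ N', Commute xH m := fun h => hne (hΦ (by
    rw [map_mul, map_mul]
    exact congrArg Subtype.val (h ⟨Φ n, hNH (mem_map_of_mem Φ hn)⟩ (mem_map_of_mem Φ hn)).eq))
  have hOp : Cfsg.pCore p H = ⊥ := by
    by_contra hP
    apply hnotcomm
    haveI hPn : (Cfsg.pCore p H).Normal := Cfsg.pCore_normal p H
    have hPp : IsPGroup p (Cfsg.pCore p H) := CfsgLib.PCore.pCore_isPGroup
    have hdis : Disjoint (Cfsg.pCore p H) N' := by
      rw [disjoint_iff, eq_bot_iff_forall]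
      rintro y ⟨hy1, hy2⟩
      obtain ⟨k, hk⟩ := hPp ⟨y, hy1⟩
      have h1 : y ^ p ^ k = 1 := congrArg Subtype.val hk
      exact orderOf_eq_one_iff.1 (Nat.eq_one_of_dvd_coprimes (Nat.Coprime.pow_right k hN'c)
        (Subgroup.orderOf_dvd_natCard N' hy2) (orderOf_dvd_of_pow_eq_one h1))
    have hmap : (Cfsg.pCore p H).map π = ⊤ := by
      rcases (Nat.dvd_prime hpp).1 hidx with h1 | h1
      · haveI : Subsingleton (↥H ⧸ N') := by
          rw [index_eq_card] at h1
          exact (Nat.card_eq_one_iff_unique.1 h1).1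
        exact Subsingleton.elim _ _
      · haveI : Fact (Nat.card (↥H ⧸ N')).Prime := ⟨by rw [← index_eq_card, h1]; exact hpp⟩
        refine ((Subgroup.eq_bot_or_eq_top_of_prime_card _).resolve_left fun e => hP ?_)
        rw [← le_bot_iff, ← hdis.eq_bot]
        refine le_inf le_rfl fun y hy => ?_
        have : π y ∈ (Cfsg.pCore p H).map π := mem_map_of_mem π hy
        rw [e, mem_bot] at this
        exact (QuotientGroup.eq_one_iff y).1 this
    obtain ⟨y, hy, hyx⟩ := hmap.symm.le (mem_top (π xH))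
    have hm : y⁻¹ * xH ∈ N' := QuotientGroup.eq.1 hyx
    have hcom : ∀ m ∈ N', Commute y m := fun m hm =>
      Subgroup.commute_of_normal_of_disjoint _ _ hPn hN'n hdis y m hy hm
    have hyp : y ^ p = 1 := by
      rw [← mem_bot, ← hdis.eq_bot]
      refine ⟨pow_mem hy p, (QuotientGroup.eq_one_iff _).1 ?_⟩
      show π (y ^ p) = 1
      rw [map_pow, hyx, hxp]
    have hxp' : xH ^ p = 1 := Subtype.ext (by
      show x ^ p = 1
      rw [hxdef, ← map_pow, hgp, map_one])
    have hm1 : y⁻¹ * xH = 1 := by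
      have h1 : (y⁻¹ * xH) ^ p = 1 := by
        have hc := hcom _ hm
        have : xH = y * (y⁻¹ * xH) := by rw [mul_inv_cancel_left]
        rw [this, hc.mul_pow, hyp, one_mul] at hxp'
        exact hxp'
      exact orderOf_eq_one_iff.1 (Nat.eq_one_of_dvd_coprimes hN'c
        (Subgroup.orderOf_dvd_natCard N' hm) (orderOf_dvd_of_pow_eq_one h1))
    rw [inv_mul_eq_one] at hm1
    exact hm1 ▸ hcom
  have hsol : Cfsg.IsPSolvable p H := by
    refine ⟨2, ![⊥, N', ⊤], rfl, rfl, ?_, ?_, ?_⟩
    · refine Fin.monotone_iff_le_succ.2 fun i => ?_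
      fin_cases i <;> simp
    · intro i
      fin_cases i
      · exact inferInstanceAs (⊥ : Subgroup H).Normal
      · exact hN'n
      · exact inferInstanceAs (⊤ : Subgroup H).Normal
    · intro i
      fin_cases i
      · right
        simpa [relIndex_bot_left] using hN'c
      · left
        show ∃ m : ℕ, N'.relIndex ⊤ = p ^ m
        rw [relIndex_top_right]
        rcases (Nat.dvd_prime hpp).1 hidx with h1 | h1
        · exact ⟨0, by simpa using h1⟩
        · exact ⟨1, by simpa using h1⟩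
  have hord : orderOf x = p ^ 1 := by
    rw [hxdef, orderOf_injective Φ hΦ, pow_one]
    exact orderOf_eq_prime hgp hg1
  have hcoe : ∀ (k : ℕ) (v : V), (((x : Module.End (ZMod p) V) - 1) ^ k) v =
      (((g : AddMonoid.End V) - 1) ^ k) v := by
    intro k
    induction k with
    | zero => exact fun v => rfl
    | succ k ih =>
      intro v
      rw [pow_succ', pow_succ', Module.End.mul_apply, ih]
      rfl
  have h6 : Polynomial.aeval (x : Module.End (ZMod p) V)
      ((Polynomial.X - 1 : Polynomial (ZMod p)) ^ 6) = 0 := by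
    rw [map_pow, map_sub, map_one, Polynomial.aeval_X]
    refine LinearMap.ext fun v => ?_
    rw [hcoe, hdeg]
    rfl
  have hdvd := minpoly.dvd (ZMod p) (x : Module.End (ZMod p) V) h6
  have hprime : Prime (Polynomial.X - 1 : Polynomial (ZMod p)) := by
    rw [← Polynomial.C_1]; exact Polynomial.prime_X_sub_C 1
  obtain ⟨r, hr6, hassoc⟩ := (dvd_prime_pow hprime 6).1 hdvd
  have hr : minpoly (ZMod p) (x : Module.End (ZMod p) V) =
      (Polynomial.X - 1 : Polynomial (ZMod p)) ^ r :=
    Polynomial.eq_of_monic_of_associated (minpoly.monic (IsIntegral.of_finite _ _))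
      ((by rw [← Polynomial.C_1]; exact Polynomial.monic_X_sub_C 1 :
        (Polynomial.X - 1 : Polynomial (ZMod p)).Monic).pow r) hassoc
  rcases Cfsg.Agent.S0633.result H hsol hOp x hxH 1 hord r hr with h | ⟨n₀, q, m, h1, h2, hq, hm, h3, -, h4⟩
  · rw [pow_one] at h; omega
  · obtain rfl : n₀ = 1 := le_antisymm h2 h1
    simp only [pow_one, Nat.sub_self, pow_zero, one_mul] at h3 h4
    obtain rfl : p = 7 := by omega
    have hq6 : q ∣ 6 := by
      have := dvd_pow_self q (show m ≠ 0 by omega)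
      rwa [← h3] at this
    have hqle := Nat.le_of_dvd (by norm_num) hq6
    have hpow : ∀ r : ℕ, r.Prime → r ∣ 6 → r = q := fun r hr hr6 =>
      (Nat.prime_dvd_prime_iff_eq hr hq).1 (hr.dvd_of_dvd_pow (h3 ▸ hr6 : r ∣ q ^ m))
    have h2' := hpow 2 Nat.prime_two (by norm_num)
    have h3' := hpow 3 Nat.prime_three (by norm_num)
    omega

/-- An element of degree at most six centralises a group of order prime to `p` it normalises. -/
theorem commute_of_small_degree [Finite V] (hp : 7 ≤ p) (hV : ∀ v : V, p • v = 0)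
    (N : Subgroup (Γ V)) (hN : (Nat.card N).Coprime p) (g : Γ V)
    (hgN : ∀ n ∈ N, g * n * g⁻¹ ∈ N) (hdeg : ((g : AddMonoid.End V) - 1) ^ 6 = 0) :
    ∀ n ∈ N, Commute g n := by
  rcases subsingleton_or_nontrivial V with hs | hs
  · exact fun n _ => Units.ext (AddMonoidHom.ext fun v => Subsingleton.elim _ _)
  · exact @commute_of_small_degree_aux p _ V _ (AddCommGroup.zmodModule hV) _ hs hp hV N hN g hgN hdeg

end CfsgLib.JTransfer
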