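import Cfsg.Agent.Lib.Techniques.MinimalFailure

/-!
# The top factor of a minimal failure

In a minimal failure of control of transfer one chief factor below the `p`-core has all proper
normal subgroups below it in its lower term and carries no element of small degree.
-/

set_option autoImplicit false
set_option linter.unusedSectionVars false

namespace CfsgLib.JTransfer

open Cfsg Subgroup CfsgLib.Techniques MulAction CfsgLib.Techniques.Fusion
open scoped commutatorElement

universe u

variable {p : ℕ} [Fact p.Prime] {X : Type u} [Group X] [Finite X]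
variable {𝓦 : Set (∀ (Q : Type u) [Group Q], Subgroup Q)} {S : Sylow p X}

/-- The top factor. -/
theorem exists_topFactor (hmf : IsMinimalFailure p 𝓦 S) :
    ∃ U V : Subgroup X, IsChiefFactor U V ∧ U ≤ pCore p X ∧
      (∀ N : Subgroup X, N.Normal → N ≤ U → N ≠ U → N ≤ V) ∧
      ∀ u ∈ (S : Subgroup X), u ∉ pCore p X → ¬ iterCommutator U (zpowers u) (p - 1) ≤ V := by
  classical
  set τ := transferTarget 𝓦 (S : Subgroup X) with hτ
  set P := pCore p X with hPdef
  set T := τ ⊓ P with hT
  set M := normalizer (T : Set X) with hM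
  have hPn : P.Normal := pCore_normal p X
  have hPS : P ≤ (S : Subgroup X) := CfsgLib.PCore.pCore_le_sylow S
  have hSne : (S : Subgroup X) ≠ ⊤ := sylow_ne_top S hmf.pCore_ne_sylow
  have hSM : (S : Subgroup X) ≤ M := hmf.le_M le_rfl hSne
  have hPp : IsPGroup p P := CfsgLib.PCore.pCore_isPGroup
  -- a minimal normal subgroup not in `τ`
  obtain ⟨U, ⟨hUn, hUle, hUτ⟩, hUmin⟩ :=
    (Set.toFinite {U : Subgroup X | U.Normal ∧ U ≤ P ⊓ _root_.commutator X ∧ ¬ U ≤ τ}).exists_minimal
      ⟨P ⊓ _root_.commutator X, inferInstance, le_rfl, hmf.fail⟩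
  obtain ⟨V, ⟨hVn, hVU⟩, hVmax⟩ := (Set.toFinite {V : Subgroup X | V.Normal ∧ V < U}).exists_maximal
    ⟨⊥, inferInstance, lt_of_le_of_ne bot_le fun e => hUτ (e ▸ bot_le)⟩
  have hch : IsChiefFactor U V := by
    refine ⟨hVU, hUn, hVn, fun N hN hVN hNU => ?_⟩
    rcases eq_or_lt_of_le hNU with h | h
    · exact Or.inr h
    · exact Or.inl (le_antisymm (hVmax ⟨hN, h⟩ hVN) hVN)
  have hVτ : V ≤ τ := by
    by_contra h
    exact hVU.not_ge (hUmin ⟨hVn, hVU.le.trans hUle, h⟩ hVU.le)
  have hUP : U ≤ P := hUle.trans inf_le_left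
  have hUp : IsPGroup p U := hPp.to_le hUP
  refine ⟨U, V, hch, hUP, fun N hN hNU hne => ?_, fun u huS huP hcon => ?_⟩
  · have hNτ : N ≤ τ := by
      by_contra h
      exact hne (le_antisymm hNU (hUmin ⟨hN, hNU.trans hUle, h⟩ hNU))
    haveI := hN
    haveI := hVn
    rcases hch.2.2.2 (N ⊔ V) inferInstance le_sup_right (sup_le hNU hVU.le) with h | h
    · exact le_sup_left.trans h.le
    · exact absurd (h ▸ sup_le hNτ hVτ) hUτ
  -- the good elements
  let Good : Set X := {v | iterCommutator U (zpowers v) (p - 1) ≤ V}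
  have hGconj : ∀ v ∈ Good, ∀ g : X, g * v * g⁻¹ ∈ Good := by
    intro v hv g
    have key : ∀ k, (iterCommutator U (zpowers v) k).map (MulAut.conj g).toMonoidHom =
        iterCommutator U (zpowers (g * v * g⁻¹)) k := by
      intro k
      induction k with
      | zero => exact map_conj_eq_self_iff.2 (normalizer_eq_top_iff.2 hUn ▸ mem_top g)
      | succ k ih =>
        show (⁅iterCommutator U (zpowers v) k, zpowers v⁆).map _ = _
        rw [map_commutator, ih, MonoidHom.map_zpowers]
        rfl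
    show iterCommutator U (zpowers (g * v * g⁻¹)) (p - 1) ≤ V
    rw [← key, ← (map_conj_eq_self_iff (H := V) (g := g)).2
      (normalizer_eq_top_iff.2 hVn ▸ mem_top g)]
    exact Subgroup.map_mono hv
  set E := closure {v | v ∈ Good ∧ v ∈ (S : Subgroup X)} with hE
  have hES : E ≤ (S : Subgroup X) := (closure_le _).2 fun v hv => hv.2
  have hEgood : ∀ g : X, E.map (MulAut.conj g).toMonoidHom ≤ (S : Subgroup X) →
      g ∈ normalizer (E : Set X) := by
    intro g hg
    rw [← map_conj_eq_self_iff]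
    refine eq_of_le_of_card_ge ?_ (card_map_conj E g).ge
    rw [hE, MonoidHom.map_closure, closure_le]
    rintro _ ⟨v, ⟨hvG, hvS⟩, rfl⟩
    exact subset_closure ⟨hGconj v hvG g, hg ⟨v, subset_closure ⟨hvG, hvS⟩, rfl⟩⟩
  have huE : u ∈ E := subset_closure ⟨hcon, huS⟩
  have hNE : normalizer (E : Set X) ≤ M := by
    refine hmf.le_M (fun s hs => hEgood s ?_) fun e => huP ?_
    · rintro _ ⟨x, hx, rfl⟩
      exact mul_mem (mul_mem hs (hES hx)) (inv_mem hs)
    · exact CfsgLib.PCore.le_pCore (normalizer_eq_top_iff.1 e) (S.2.to_le hES) huE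
  -- the homomorphism
  have hTn : (T.subgroupOf M).Normal := normal_in_normalizer
  let ϕ₀ : M →* (M ⧸ T.subgroupOf M) := QuotientGroup.mk' _
  let ϕ : M →* Abelianization (M ⧸ T.subgroupOf M) := Abelianization.of.comp ϕ₀
  have hkill : ∀ a : U, ϕ ⟨a, (hUP.trans (hPS.trans hSM)) a.2⟩ = 1 := by
    refine eq_one_of_orbit_norm S M hSM U V hVn (hUP.trans (hPS.trans hSM))
      (hUle.trans inf_le_right) ϕ (fun x hx => ?_) Good (fun v hv _ w hw a =>
        prod_conj_eq_one_of_iterCommutator hch hUp hv w hw a) (fun g hg => ?_)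
    · show Abelianization.of (ϕ₀ x) = 1
      rw [show ϕ₀ x = 1 from (QuotientGroup.eq_one_iff x).2
        (mem_inf.2 ⟨hVτ hx, hUP (hVU.le hx)⟩), map_one]
    · have hle : E.map (MulAut.conj g⁻¹).toMonoidHom ≤ M := by
        rw [hE, MonoidHom.map_closure, closure_le]
        rintro _ ⟨v, ⟨hvG, hvS⟩, rfl⟩
        simpa using hg v hvG hvS
      obtain ⟨m, hm, hmE⟩ := exists_conj_le_sylow_of hle (isPGroup_map_conj (S.2.to_le hES) g⁻¹) hSM S.2
        (not_dvd_relIndex_sylow S hSM)
      rw [← map_conj_mul] at hmE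
      have h3 := hNE (hEgood _ hmE)
      have h4 := mul_mem (inv_mem h3) hm
      simpa using h4
  -- conclude `U ≤ τ`
  apply hUτ
  intro a ha
  have h0 := hkill ⟨a, ha⟩
  have hmem : ϕ₀ ⟨a, (hUP.trans (hPS.trans hSM)) ha⟩ ∈ _root_.commutator (M ⧸ T.subgroupOf M) := by
    rw [← Abelianization.ker_of]; exact h0
  rw [_root_.commutator_def, ← map_top_of_surjective ϕ₀ (QuotientGroup.mk'_surjective _),
    ← map_commutator, ← _root_.commutator_def] at hmem
  obtain ⟨m, hm, hma⟩ := hmem
  have hmT : (m : X)⁻¹ * a ∈ T := by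
    have := QuotientGroup.eq.1 hma
    rwa [mem_subgroupOf] at this
  have hmP : (m : X) ∈ P := by
    have h1 := mul_mem (hUP ha) (inv_mem (mem_inf.1 hmT).2)
    simpa using h1
  have hmc : (m : X) ∈ ⁅M, M⁆ := commutator_inf_le_comap m.2 hm
  have h2 := hmf.inf_commutator_M.2 (mem_inf.2 ⟨hmP, hmc⟩)
  simpa using mul_mem (mem_inf.1 h2).2 (mem_inf.1 hmT).1

end CfsgLib.JTransfer
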