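import Cfsg.Agent.Lib.JTransfer.Moved
import Cfsg.Agent.Lib.JTransfer.TopFactor
import Cfsg.Agent.Lib.Techniques.Failure
import Cfsg.Agent.Lib.Transfer.Tate

/-!
# The normaliser of the abelian Thompson subgroup controls transfer for `p ≥ 7`

Glauberman's functor theorem on transfer, for the subgroup generated by the abelian subgroups of
largest order.
-/

set_option autoImplicit false
set_option linter.unusedSectionVars false

open Subgroup
open scoped commutatorElement IsMulCommutative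

namespace CfsgLib.JTransfer

open CfsgLib.Techniques CfsgLib.Techniques.Fusion CfsgLib.Techniques.KInf CfsgLib.PLocal

universe u

variable {X : Type u} [Group X] [Finite X] {p : ℕ} [Fact p.Prime]

/-- Every element of the chosen subgroup has degree at most six on a top factor. -/
theorem deg_six {S : Sylow p X} {M A U V : Subgroup X} (hp : 7 ≤ p) (hM : MaxOver S M)
    (h : Chosen (S : Subgroup X) (Cfsg.pCore p X) A) (hUV : Cfsg.IsChiefFactor U V)
    (hUQ : U ≤ Cfsg.pCore p X)
    (hlow : ∀ N : Subgroup X, N.Normal → N ≤ U → N ≠ U → N ≤ V) {a : X} (ha : a ∈ A) :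
    Deg a 6 U V := by
  classical
  obtain ⟨hlt, hUn, hVn, -⟩ := id hUV
  haveI := hUn
  haveI := hVn
  set Q := Cfsg.pCore p X
  have hQS : Q ≤ (S : Subgroup X) := CfsgLib.PCore.pCore_le_sylow S
  have hQp : IsPGroup p Q := S.2.to_le hQS
  by_cases hab : ∀ x ∈ U, ∀ y ∈ U, Commute x y
  · exact (h.deg_three S.2 hQS hUQ
      (commutator_le_of_isPGroup hUV (hQp.to_le hUQ) inferInstance hQp) hab ha).mono (by omega)
  by_cases hB : ∃ B : Subgroup X, B.Normal ∧ B ≤ Q ∧ (∀ x ∈ B, ∀ y ∈ B, Commute x y) ∧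
      ¬ B ≤ centralizer (U : Set X)
  · obtain ⟨B, hBn, hBQ, hBab, hBU⟩ := hB
    haveI := hBn
    exact (h.deg_of_abelian S.2 hQS hUQ hBQ hlow hBab hBU ha).mono (by omega)
  push Not at hB
  obtain ⟨hclass, U₁, hn, hU₁U, hU₁C, hc⟩ := exists_core hQp hUQ hB
    fun hle => hab fun x hx y hy => mem_centralizer_iff.1 (hle hy) x hx
  haveI := hn
  haveI := hc.sec_comm_top
  haveI := hc.sec_comm_bot
  obtain ⟨ω, hω⟩ := hc.exists_form
  have hnc : ∀ K : Subgroup X, (∀ g, act ⁅U₁, U₁⁆ (⊥ : Subgroup X) g = 1 → g ∈ K) → K ≠ ⊤ →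
      K < normalizer (K : Set X) := by
    intro K hK hKtop
    set C := (act ⁅U₁, U₁⁆ (⊥ : Subgroup X)).toHomUnits.ker with hC
    have hCmem : ∀ g, g ∈ C ↔ act ⁅U₁, U₁⁆ (⊥ : Subgroup X) g = 1 := fun g => Units.ext_iff
    have hCK : C ≤ K := fun g hg => hK g ((hCmem g).1 hg)
    haveI : C.Normal := MonoidHom.normal_ker _
    have hCS : C ⊔ (S : Subgroup X) = ⊤ := by
      by_contra hne
      exact hω.not_le_M hc h hp hM fun g hg =>
        hM.uniq _ le_sup_right hne (mem_sup_left ((hCmem g).2 hg))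
    set q := QuotientGroup.mk' C with hq
    have hqs : Function.Surjective q := QuotientGroup.mk'_surjective C
    have htop : (S : Subgroup X).map q = ⊤ := by
      rw [← map_top_of_surjective q hqs, ← hCS, Subgroup.map_sup,
        (Subgroup.map_eq_bot_iff C).2 (QuotientGroup.ker_mk' C).ge, bot_sup_eq]
    have hpg : IsPGroup p (X ⧸ C) := (htop ▸ S.2.map q).of_equiv Subgroup.topEquiv
    haveI : Group.IsNilpotent (X ⧸ C) := hpg.isNilpotent
    have hback : (K.map q).comap q = K := by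
      rw [comap_map_eq, QuotientGroup.ker_mk', sup_eq_left.2 hCK]
    have hne : K.map q < ⊤ := lt_top_iff_ne_top.2 fun e => hKtop (by rw [← hback, e, comap_top])
    obtain ⟨x, hx, hxK⟩ := SetLike.exists_of_lt
      (normalizerCondition_of_isNilpotent (K.map q) hne)
    obtain ⟨g, rfl⟩ := hqs x
    refine SetLike.lt_iff_le_and_exists.2 ⟨le_normalizer, g, ?_, fun hg => hxK (mem_map_of_mem q hg)⟩
    rw [← hback, ← comap_normalizer_eq_of_surjective _ hqs]
    exact hx
  have htriv := hω.centralize hc h S.2 hQS (by omega) hnc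
  refine h.deg_of_pair S.2 hQS hUQ hc.le hlow ((commutator_mono hU₁U hU₁U).trans hclass)
    (fun e => hU₁C (le_centralizer_iff.1 (commutator_eq_bot_iff_le_centralizer.1 e)))
    (fun x hx y hy => ?_) ha (hω.deg_four hc h S.2 hQS (by omega) htriv ha)
  exact (mem_centralizer_iff.1 (hclass (commutator_mono le_rfl hU₁U hx)) y
    (commutator_le_left U U₁ hy)).symm

/-- The functor. -/
abbrev jFun (Q : Type u) [Group Q] : Subgroup Q := Cfsg.thompsonSubgroupA Q

theorem isCharPFunctor_jFun : Cfsg.IsCharPFunctor.{u} p (fun Q [Group Q] => jFun Q) := by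
  refine ⟨fun Q _ _ _ hnt => ?_, fun Q R _ _ _ _ φ => ?_⟩
  · show Cfsg.thompsonSubgroupA Q ≠ ⊥
    rw [thompsonSubgroupA_eq]
    intro e
    obtain ⟨A, hA⟩ := exists_isMaxElemIn 0 (⊤ : Subgroup Q)
    have hA1 : A = ⊥ := le_bot_iff.1 (e ▸ hA.le_thompson)
    obtain ⟨x, hx⟩ := exists_ne (1 : Q)
    have h1 := hA.2.2 (zpowers x) le_top (elemAb_zero_iff.2 inferInstance)
    rw [hA1, Subgroup.card_bot] at h1
    exact hx (zpowers_eq_bot.1 (Subgroup.eq_bot_of_card_le _ h1))
  · show (Cfsg.thompsonSubgroupA Q).map φ.toMonoidHom = Cfsg.thompsonSubgroupA R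
    rw [thompsonSubgroupA_eq, thompsonSubgroupA_eq, ← thompson_map φ.injective,
      map_top_of_surjective _ φ.surjective]

theorem transCtrl_jFun {G : Type u} [Group G] [Finite G] (hp : 7 ≤ p) :
    TransCtrl p {fun Q [Group Q] => jFun Q} G := by
  have h𝓦 : ∀ V ∈ ({fun Q [Group Q] => jFun Q} : Set (∀ (Q : Type u) [Group Q], Subgroup Q)),
      Cfsg.IsCharPFunctor.{u} p V := fun V hV => by
    obtain rfl := hV; exact isCharPFunctor_jFun
  refine transCtrl_of_constrained h𝓦 (fun X _ _ _ _ hind => ?_) G IsSectionOf.refl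
  by_contra hnot
  obtain ⟨S⟩ : Nonempty (Sylow p X) := inferInstance
  have hmf := isMinimalFailure_of_not_transCtrl h𝓦 (Set.singleton_nonempty _) hind hnot S
  set Q := Cfsg.pCore p X with hQ
  have hQS : Q ≤ (S : Subgroup X) := CfsgLib.PCore.pCore_le_sylow S
  -- an abelian subgroup of largest order outside the core
  obtain ⟨A₀, hA₀, hA₀Q⟩ : ∃ A, IsMaxElemIn 0 (S : Subgroup X) A ∧ ¬ A ≤ Q := by
    by_contra hcon
    push Not at hcon
    have hJ : thompson 0 (S : Subgroup X) ≤ Q := thompson_le_iff.2 hcon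
    have hn : (thompson 0 (S : Subgroup X)).Normal := by
      rw [← thompson_eq_of_le hQS hJ]
      exact normalizer_eq_top_iff.1 (top_le_iff.1
        ((normalizer_eq_top_iff.2 (Cfsg.pCore_normal p X)).ge.trans
          (normalizer_le_normalizer_thompson 0 Q)))
    refine hnot (transCtrl_of_sylow h𝓦 S (le_iSup₂_of_le _ ⟨_, rfl, rfl⟩ (inf_le_inf_left _ ?_)))
    have htop : normalizer ((Cfsg.inducedFunctor (G := X) (fun Q [Group Q] => jFun Q)
        (S : Subgroup X) : Subgroup X) : Set X) = ⊤ := by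
      refine normalizer_eq_top_iff.2 ?_
      show (Cfsg.thompsonSubgroupAOf (S : Subgroup X)).Normal
      rw [thompsonSubgroupAOf_eq]
      exact hn
    show _root_.commutator X ≤ ⁅normalizer _, normalizer _⁆
    rw [htop, _root_.commutator_def]
  obtain ⟨A, hA⟩ := exists_chosen (S.2.to_le hQS) hA₀ hA₀Q
  obtain ⟨U, V, hUV, hUQ, hlow, hno⟩ := exists_topFactor hmf
  obtain ⟨a, haA, haQ⟩ := SetLike.not_le_iff_exists.1 hA.notLe
  have hM : MaxOver S (normalizer ((transferTarget {fun Q [Group Q] => jFun Q} (S : Subgroup X) ⊓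
      Cfsg.pCore p X : Subgroup X) : Set X)) :=
    ⟨hmf.le_M le_rfl (sylow_ne_top S hmf.pCore_ne_sylow), hmf.M_ne_top,
      fun H h1 h2 => hmf.le_M h1 h2, hmf.sylow_not_normal⟩
  haveI := hUV.2.1
  haveI := hUV.2.2.1
  exact hno a (hA.isMax.le haA) haQ (Deg.iterCommutator_le
    ((deg_six hp hM hA hUV hUQ hlow haA).mono (by omega))
    (chiefFactor_commutative hUV ((S.2.to_le hQS).to_le hUQ)))

/-- The largest `p`-factor group is that of the normaliser. -/
theorem nonempty_quotient_equiv {G : Type u} [Group G] [Finite G] (hp : 7 ≤ p) (S : Sylow p G)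
    [hn : (Cfsg.pResidual p G).Normal]
    [hm : (Cfsg.pResidual p
      ↥(normalizer (Cfsg.thompsonSubgroupAOf (S : Subgroup G) : Set G))).Normal] :
    Nonempty (G ⧸ Cfsg.pResidual p G ≃*
      ↥(normalizer (Cfsg.thompsonSubgroupAOf (S : Subgroup G) : Set G)) ⧸
        Cfsg.pResidual p ↥(normalizer (Cfsg.thompsonSubgroupAOf (S : Subgroup G) : Set G))) := by
  classical
  set M := normalizer (Cfsg.thompsonSubgroupAOf (S : Subgroup G) : Set G) with hM
  have hSM : (S : Subgroup G) ≤ M := by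
    rw [hM, thompsonSubgroupAOf_eq]
    exact le_normalizer_thompson 0 _
  have htr : _root_.commutator G ⊓ (S : Subgroup G) ≤ ⁅M, M⁆ := by
    rw [inf_comm]
    refine (transCtrl_jFun hp S).trans (iSup₂_le ?_)
    rintro _ ⟨W, hW, rfl⟩
    obtain rfl := hW
    exact inf_le_right
  have heq := CfsgLib.Transfer.inf_pResidual_eq S M hSM htr
  set R := Cfsg.pResidual p G with hR
  set RM := Cfsg.pResidual p ↥M with hRM
  set f := (QuotientGroup.mk' R).comp M.subtype with hf
  have hsurj : Function.Surjective f := by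
    intro y
    obtain ⟨g, rfl⟩ := QuotientGroup.mk'_surjective R y
    obtain ⟨s, hs, r, hr, rfl⟩ := mem_sup_of_normal_right.1
      ((CfsgLib.Transfer.sylow_sup_pResidual S).symm ▸ mem_top g :
        g ∈ (S : Subgroup G) ⊔ R)
    refine ⟨⟨s, hSM hs⟩, ?_⟩
    show QuotientGroup.mk' R s = QuotientGroup.mk' R (s * r)
    rw [map_mul, show QuotientGroup.mk' R r = 1 from (QuotientGroup.eq_one_iff r).2 hr, mul_one]
  have hle : RM ≤ R.comap M.subtype := (closure_le _).2 fun x hx => by
    refine subset_closure ?_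
    show Nat.Coprime (orderOf (x : G)) p
    rw [Subgroup.orderOf_coe]
    exact hx
  have hker : f.ker = RM := by
    refine le_antisymm (fun x hx => ?_) fun x hx => (QuotientGroup.eq_one_iff _).2 (hle hx)
    have hxR : (x : G) ∈ R := (QuotientGroup.eq_one_iff _).1 hx
    obtain ⟨s, hs, r, hr, e⟩ := mem_sup_of_normal_right.1
      ((CfsgLib.Transfer.sylow_sup_pResidual (S.subtype hSM)).symm ▸ mem_top x :
        x ∈ ((S.subtype hSM : Sylow p ↥M) : Subgroup ↥M) ⊔ RM)
    have hsS : (s : G) ∈ (S : Subgroup G) := hs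
    have hsR : (s : G) ∈ R := by
      have h1 := mul_mem hxR (inv_mem (hle hr : (r : G) ∈ R))
      rw [← e] at h1
      simpa [mul_assoc] using h1
    have h2 : (s : G) ∈ (S : Subgroup G) ⊓ R := ⟨hsS, hsR⟩
    rw [heq] at h2
    obtain ⟨s', hs', e'⟩ := h2.2
    rw [← e]
    exact mul_mem ((Subtype.ext e' : s' = s) ▸ hs') hr
  exact ⟨((QuotientGroup.quotientMulEquivOfEq hker.symm).trans
    (QuotientGroup.quotientKerEquivOfSurjective f hsurj)).symm⟩

end CfsgLib.JTransfer
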