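import Cfsg.Agent.Lib.JTransfer.Centralize
import Cfsg.Agent.Lib.JTransfer.Linear
import Cfsg.Agent.Lib.JTransfer.Elements
import Cfsg.Agent.Lib.LocalEven.MinPar.Moves
import Cfsg.Agent.Lib.LocalEven.MinPar.Sym
import Cfsg.Agent.Lib.Techniques.ChiefTools
import Cfsg.Prelude.Def_CaseTheorems

/-!
# The values of the form are not moved

In a minimal situation the centraliser of the values of the commutator form is not contained in the
maximal subgroup containing the Sylow subgroup.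
-/

set_option autoImplicit false
set_option linter.unusedSectionVars false

open Subgroup
open scoped commutatorElement IsMulCommutative

namespace CfsgLib.JTransfer

open CfsgLib.LocalEven.PGV CfsgLib.LocalEven.MinPar CfsgLib.Techniques

universe u

/-- A group with a unique maximal overgroup `M` of a Sylow subgroup that is not normal. -/
structure MaxOver {X : Type u} [Group X] {p : ℕ} (S : Sylow p X) (M : Subgroup X) : Prop where
  le : (S : Subgroup X) ≤ M
  ne : M ≠ ⊤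
  uniq : ∀ H : Subgroup X, (S : Subgroup X) ≤ H → H ≠ ⊤ → H ≤ M
  notNormal : ¬ (S : Subgroup X).Normal

variable {X : Type u} [Group X] [Finite X] {p : ℕ} [Fact p.Prime] {S : Sylow p X} {M : Subgroup X}

/-- A normal subgroup inside `M` meets `S` in the `p`-core. -/
theorem MaxOver.inf_le (hM : MaxOver S M) {N : Subgroup X} [N.Normal] (hN : N ≤ M) :
    (S : Subgroup X) ⊓ N ≤ Cfsg.pCore p X := by
  have hle : (S : Subgroup X) ≤ normalizer (((S : Subgroup X) ⊓ N : Subgroup X) : Set X) := fun s hs =>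
    mem_normalizer_inf (le_normalizer hs) (normalizer_eq_top_iff.2 (inferInstance : N.Normal) ▸ mem_top s)
  have htop : normalizer (((S : Subgroup X) ⊓ N : Subgroup X) : Set X) = ⊤ := by
    by_contra h
    exact hM.ne (top_le_iff.1 ((sup_normalizer_inf_eq_top S N).symm.le.trans
      (sup_le hN (hM.uniq _ hle h))))
  exact CfsgLib.PCore.le_pCore (normalizer_eq_top_iff.1 htop) (S.2.to_le inf_le_left)

/-- A normal subgroup meeting `S` outside the `p`-core supplements it. -/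
theorem MaxOver.sup_eq_top (hM : MaxOver S M) {N : Subgroup X} [N.Normal]
    (hN : ¬ (S : Subgroup X) ⊓ N ≤ Cfsg.pCore p X) : N ⊔ (S : Subgroup X) = ⊤ := by
  by_contra h
  exact hN (hM.inf_le (le_sup_left.trans (hM.uniq _ le_sup_right h)))

theorem MaxOver.isPMinimal_quotient (hM : MaxOver S M) {C : Subgroup X} [C.Normal] (hC : C ≤ M) :
    Cfsg.IsPMinimal p (X ⧸ C) := by
  classical
  set q := QuotientGroup.mk' C with hq
  have hqs : Function.Surjective q := QuotientGroup.mk'_surjective C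
  set S₀ : Sylow p (X ⧸ C) := S.mapSurjective hqs with hS₀
  have hS₀c : (S₀ : Subgroup (X ⧸ C)) = (S : Subgroup X).map q := rfl
  have hker : q.ker = C := QuotientGroup.ker_mk' C
  have hback : (M.map q).comap q = M := by rw [comap_map_eq, hker, sup_eq_left.2 hC]
  have hMtop : M.map q ≠ ⊤ := fun e => hM.ne (by rw [← hback, e, comap_top])
  have hle₀ : (S₀ : Subgroup (X ⧸ C)) ≤ M.map q := hS₀c ▸ map_mono hM.le
  have hall : ∀ K : Subgroup (X ⧸ C), (S₀ : Subgroup (X ⧸ C)) ≤ K → K ≠ ⊤ → K ≤ M.map q := by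
    intro K hK hne
    rw [← map_comap_eq_self_of_surjective hqs K]
    refine map_mono (hM.uniq _ (fun s hs => hK (hS₀c ▸ mem_map_of_mem q hs)) fun e => hne ?_)
    rw [← map_comap_eq_self_of_surjective hqs K, e, map_top_of_surjective q hqs]
  have hco : IsCoatom (M.map q) := ⟨hMtop, fun K hK => by
    by_contra hne
    exact hK.not_ge (hall K (hle₀.trans hK.le) hne)⟩
  have hnn : ¬ (S₀ : Subgroup (X ⧸ C)).Normal := by
    intro hn
    rw [hS₀c] at hn
    haveI : (C ⊔ (S : Subgroup X)).Normal := by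
      have e : ((S : Subgroup X).map q).comap q = C ⊔ (S : Subgroup X) := by
        rw [comap_map_eq, hker, sup_comm]
      rw [← e]
      exact hn.comap q
    have h1 := hM.inf_le (sup_le hC hM.le : C ⊔ (S : Subgroup X) ≤ M)
    rw [inf_eq_left.2 le_sup_right] at h1
    have e : Cfsg.pCore p X = (S : Subgroup X) :=
      le_antisymm (CfsgLib.PCore.pCore_le_sylow S) h1
    exact hM.notNormal (e ▸ Cfsg.pCore_normal p X)
  intro T
  obtain ⟨g, hg⟩ := MulAction.exists_smul_eq (X ⧸ C) S₀ T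
  have hT : (T : Subgroup (X ⧸ C)) = (S₀ : Subgroup (X ⧸ C)).map (MulAut.conj g).toMonoidHom := by
    rw [← hg, Sylow.coe_subgroup_smul, pointwise_smul_def]; rfl
  have hinj : Function.Injective (MulAut.conj g).toMonoidHom := (MulAut.conj g).injective
  refine ⟨fun hn => hnn ?_, (M.map q).map (MulAut.conj g).toMonoidHom, ⟨?_, ?_⟩, ?_⟩
  · have e : ((T : Subgroup (X ⧸ C))).comap (MulAut.conj g).toMonoidHom = (S₀ : Subgroup (X ⧸ C)) := by
      rw [hT, comap_map_eq_self_of_injective hinj]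
    rw [← e]
    exact hn.comap _
  · exact ((MulAut.conj g).mapSubgroup.isCoatom_iff _).2 hco
  · exact hT ▸ map_mono hle₀
  · rintro K ⟨hK, hTK⟩
    obtain ⟨K₀, rfl⟩ := (MulAut.conj g).mapSubgroup.surjective K
    have hK₀ : IsCoatom K₀ := ((MulAut.conj g).mapSubgroup.isCoatom_iff _).1 hK
    have hSK : (S₀ : Subgroup (X ⧸ C)) ≤ K₀ := by
      rw [hT] at hTK
      exact (map_le_map_iff_of_injective hinj).1 hTK
    have hKM := hall K₀ hSK hK₀.1
    have e : K₀ = M.map q := hKM.eq_or_lt.resolve_right fun h => hMtop (hK₀.2 _ h)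
    rw [e]; rfl

theorem MaxOver.pCore_quotient (hM : MaxOver S M) {C : Subgroup X} [C.Normal] (hC : C ≤ M)
    (hQC : Cfsg.pCore p X ≤ C) : Cfsg.pCore p (X ⧸ C) = ⊥ := by
  set q := QuotientGroup.mk' C
  have hqs : Function.Surjective q := QuotientGroup.mk'_surjective C
  set R := (Cfsg.pCore p (X ⧸ C)).comap q with hR
  haveI : R.Normal := (Cfsg.pCore_normal p (X ⧸ C)).comap q
  have hCR : C ≤ R := fun c hc => by
    show q c ∈ Cfsg.pCore p (X ⧸ C)
    rw [show q c = 1 from (QuotientGroup.eq_one_iff c).2 hc]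
    exact one_mem _
  have hle : R ≤ C ⊔ (S : Subgroup X) := by
    refine (comap_mono (CfsgLib.PCore.pCore_le_sylow (S.mapSurjective hqs))).trans ?_
    show ((S : Subgroup X).map q).comap q ≤ _
    rw [comap_map_eq, QuotientGroup.ker_mk', sup_comm]
  have hSR := hM.inf_le (hle.trans (sup_le hC hM.le) : R ≤ M)
  rw [eq_bot_iff_forall]
  intro x hx
  obtain ⟨r, rfl⟩ := hqs x
  obtain ⟨c, hc, s, hs, rfl⟩ := mem_sup_of_normal_left.1 (hle (hx : r ∈ R))
  have hsR : s ∈ R := by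
    have := mul_mem (inv_mem (hCR hc)) (hx : c * s ∈ R)
    rwa [inv_mul_cancel_left] at this
  exact (QuotientGroup.eq_one_iff _).2 (mul_mem hc (hQC (hSR ⟨hs, hsR⟩)))

theorem card_map_mul_ker {G H : Type*} [Group G] [Group H] (f : G →* H) (K : Subgroup G) :
    Nat.card (K.map f) * Nat.card ↥(K ⊓ f.ker) = Nat.card K := by
  rw [← relIndex_ker, ← inf_relIndex_left, mul_comm,
    ← Nat.card_congr (subgroupOfEquivOfLe (inf_le_left : K ⊓ f.ker ≤ K)).toEquiv]
  exact card_mul_index _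

theorem card_mul_le_of_abelian {G : Type*} [Group G] [Finite G] {S A B W : Subgroup G}
    (hA : CfsgLib.PLocal.IsMaxElemIn 0 S A) (hBA : B ≤ A) (hWS : W ≤ S)
    (hW : ∀ x ∈ W, ∀ y ∈ W, Commute x y) (hWB : ∀ x ∈ W, ∀ y ∈ B, Commute x y) :
    Nat.card B * Nat.card W ≤ Nat.card A * Nat.card ↥(W ⊓ B) := by
  set φ : ↥W × ↥B →* G := MonoidHom.noncommCoprod W.subtype B.subtype
    (fun x y => hWB x x.2 y y.2) with hφ
  have hr : Nat.card φ.range ≤ Nat.card A := by
    refine hA.2.2 _ ?_ (CfsgLib.PLocal.elemAb_zero_iff.2 (CfsgLib.PLocal.isMulCommutative_of_forall ?_))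
    · rintro _ ⟨⟨x, y⟩, rfl⟩
      exact mul_mem (hWS x.2) (hA.le (hBA y.2))
    · rintro _ ⟨q, rfl⟩ _ ⟨r, rfl⟩
      rw [← map_mul, ← map_mul]
      congr 1
      ext
      · exact (hW _ q.1.2 _ r.1.2).eq
      · exact CfsgLib.PLocal.elemAb_commute hA.elem (hBA q.2.2) (hBA r.2.2)
  have hk : Nat.card φ.ker ≤ Nat.card ↥(W ⊓ B) := by
    have hval : ∀ q : φ.ker, ((q.1.1 : G)) * (q.1.2 : G) = 1 := fun q => q.2
    refine Nat.card_le_card_of_injective (fun q => ⟨q.1.1, q.1.1.2, ?_⟩) ?_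
    · rw [eq_inv_of_mul_eq_one_left (hval q)]
      exact B.inv_mem q.1.2.2
    · intro q r h
      have h1 : (q.1.1 : G) = r.1.1 := by simpa using congrArg Subtype.val h
      have h2 := hval q
      rw [h1, ← hval r] at h2
      exact Subtype.ext (Prod.ext (Subtype.ext h1) (Subtype.ext (mul_left_cancel h2)))
  calc Nat.card B * Nat.card W = Nat.card (↥W × ↥B) := by rw [Nat.card_prod, mul_comm]
    _ = Nat.card φ.range * Nat.card φ.ker := by
      rw [Subgroup.card_eq_card_quotient_mul_card_subgroup φ.ker,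
        Nat.card_congr (QuotientGroup.quotientKerEquivRange φ).toEquiv]
    _ ≤ _ := Nat.mul_le_mul hr hk

variable {A U₁ Z₁ : Subgroup X} [U₁.Normal] [Z₁.Normal] [IsMulCommutative ↥(sec U₁ Z₁)]
  [IsMulCommutative ↥(sec ⁅U₁, U₁⁆ (⊥ : Subgroup X))]
  {ω : Additive ↥(sec U₁ Z₁) →+ Additive ↥(sec U₁ Z₁) →+
    Additive ↥(sec ⁅U₁, U₁⁆ (⊥ : Subgroup X))}

set_option maxHeartbeats 4000000 in
/-- The centraliser of the values is not below `M`. -/
theorem IsForm.not_le_M (hω : IsForm ω) (hc : Core (Cfsg.pCore p X) U₁ Z₁)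
    (h : Chosen (S : Subgroup X) (Cfsg.pCore p X) A) (hp : 7 ≤ p) (hM : MaxOver S M) :
    ¬ ∀ g, act ⁅U₁, U₁⁆ ⊥ g = 1 → g ∈ M := by
  classical
  intro hCM
  have hpp : p.Prime := Fact.out
  set Q := Cfsg.pCore p X with hQdef
  have hQS : Q ≤ (S : Subgroup X) := CfsgLib.PCore.pCore_le_sylow S
  set W₁ := ⁅U₁, U₁⁆ with hW₁def
  have hW₁Q : W₁ ≤ Q := (commutator_le_self U₁).trans hc.le
  set σ := act W₁ (⊥ : Subgroup X) with hσ
  set σu := σ.toHomUnits with hσu
  set τ := act U₁ Z₁ with hτ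
  set τu := τ.toHomUnits with hτu
  set C := σu.ker with hCdef
  have hCmem : ∀ g, g ∈ C ↔ σ g = 1 := fun g => Units.ext_iff
  have hC : C ≤ M := fun g hg => hCM g ((hCmem g).1 hg)
  have hQC : Q ≤ C := fun q hq => (hCmem q).2 (AddMonoidHom.ext fun v => by
    obtain ⟨w, rfl⟩ := cl_surj v
    show act W₁ (⊥ : Subgroup X) q (cl ⊥ w) = cl ⊥ w
    rw [act_cl, cl_eq_cl, mem_bot, inv_mul_eq_one, mul_inv_eq_iff_eq_mul]
    exact hc.commute_Q w w.2 q hq)
  have hSC : (S : Subgroup X) ⊓ C ≤ Q := hM.inf_le hC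
  have hτσ : ∀ g, τu g = 1 → g ∈ C := fun g hg =>
    (hCmem g).2 (hω.act_eq_one (congrArg Units.val hg : τ g = 1))
  have hU₁p : IsPGroup p U₁ := (S.2.to_le hQS).to_le hc.le
  obtain ⟨hexpV, hexpW⟩ := IsForm.smul_eq_zero (p := p) hc hU₁p
  -- the image of `A`
  set A' := A.map σu with hA'
  have hAcomm : ∀ a ∈ A, ∀ b ∈ A, a * b = b * a := fun a ha b hb =>
    CfsgLib.PLocal.elemAb_commute h.isMax.elem ha hb
  have hne : A' ≠ ⊥ := fun e => h.notLe fun a ha => hSC ⟨h.isMax.le ha, by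
    show σu a = 1
    rw [← mem_bot, ← e]
    exact mem_map_of_mem _ ha⟩
  haveI : Nontrivial (Additive ↥(sec W₁ (⊥ : Subgroup X))) := by
    rcases subsingleton_or_nontrivial (Additive ↥(sec W₁ (⊥ : Subgroup X))) with hs | hs
    · exact absurd ((eq_bot_iff_forall _).2 fun x _ => Units.ext (DFunLike.ext _ _ fun v =>
        Subsingleton.elim _ _)) hne
    · exact hs
  have hquad : ∀ a ∈ A, (σ a - 1) ^ 2 = 0 := by
    intro a ha
    rw [hσ, ← deg_iff]
    intro w hw
    exact mem_bot.2 (h.quadratic S.2 hQS hW₁Q hc.comm_comm hc.commute_Q a ha a ha w hw)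
  have hel : Cfsg.IsElementaryAbelian p A' := by
    refine ⟨CfsgLib.PLocal.isMulCommutative_of_forall ?_, ?_⟩
    · rintro _ ⟨a, ha, rfl⟩ _ ⟨b, hb, rfl⟩
      rw [← map_mul, ← map_mul, hAcomm a ha b hb]
    · rintro _ ⟨a, ha, rfl⟩
      exact pow_prime_eq_one hexpW (σu a) (k := 2) (by omega) (hquad a ha)
  have hbest' : ∀ B ≤ A', Nat.card B * Nat.card (fix B) ≤ Nat.card A' * Nat.card (fix A') := by
    intro B' hB'
    set B := A ⊓ B'.comap σu with hB
    have hBmap : B.map σu = B' := by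
      refine le_antisymm (map_le_iff_le_comap.2 inf_le_right) fun x hx => ?_
      obtain ⟨a, ha, rfl⟩ := hB' hx
      exact mem_map_of_mem σu ⟨ha, hx⟩
    have hKeq : B ⊓ σu.ker = A ⊓ σu.ker := le_antisymm (inf_le_inf_right _ inf_le_left)
      fun x hx => ⟨⟨hx.1, by show σu x ∈ B'; rw [show σu x = 1 from hx.2]; exact one_mem _⟩, hx.2⟩
    have hfix : ∀ D : Subgroup X,
        Nat.card (fix (D.map σu)) = Nat.card ↥(W₁ ⊓ centralizer (D : Set X)) := by
      intro D
      let f : ↥(W₁ ⊓ centralizer (D : Set X)) → ↥(fix (D.map σu)) := fun w =>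
        ⟨cl (⊥ : Subgroup X) (⟨w, w.2.1⟩ : ↥W₁), by
          rintro _ ⟨d, hd, rfl⟩
          show act W₁ (⊥ : Subgroup X) d (cl ⊥ _) = cl ⊥ _
          rw [act_cl, cl_eq_cl, mem_bot, inv_mul_eq_one, mul_inv_eq_iff_eq_mul]
          exact mem_centralizer_iff.1 w.2.2 d hd⟩
      refine (Nat.card_congr (Equiv.ofBijective f ⟨fun w w' e => ?_, fun v => ?_⟩)).symm
      · have e' : cl (⊥ : Subgroup X) (⟨w, w.2.1⟩ : ↥W₁) = cl ⊥ (⟨w', w'.2.1⟩ : ↥W₁) :=
          congrArg Subtype.val e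
        rw [cl_eq_cl, mem_bot, inv_mul_eq_one] at e'
        exact Subtype.ext e'
      · obtain ⟨w, hw⟩ := cl_surj (v : Additive ↥(sec W₁ (⊥ : Subgroup X)))
        refine ⟨⟨w, w.2, mem_centralizer_iff.2 fun d hd => ?_⟩, Subtype.ext hw⟩
        have h1 : act W₁ (⊥ : Subgroup X) d (cl ⊥ w) = cl ⊥ w := by
          rw [hw]; exact v.2 _ (mem_map_of_mem σu hd)
        rw [act_cl, cl_eq_cl, mem_bot, inv_mul_eq_one, mul_inv_eq_iff_eq_mul] at h1
        exact h1
    have h1 := card_mul_le_of_abelian (W := W₁ ⊓ centralizer (B : Set X)) h.isMax inf_le_left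
      (inf_le_left.trans (hW₁Q.trans hQS)) (fun x hx y hy => hc.comm_comm x hx.1 y hy.1)
      (fun x hx y hy => (mem_centralizer_iff.1 hx.2 y hy).symm)
    have h2 : Nat.card ↥(W₁ ⊓ centralizer (B : Set X) ⊓ B) ≤
        Nat.card ↥(W₁ ⊓ centralizer (A : Set X)) := by
      refine Subgroup.card_le_of_le fun x hx => ⟨hx.1.1, mem_centralizer_iff.2 fun a ha => ?_⟩
      exact hAcomm a ha x hx.2.1
    have h3 := card_map_mul_ker σu B
    have h4 := card_map_mul_ker σu A
    rw [hKeq, hBmap] at h3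
    rw [← hBmap, hfix, hA', hfix, hBmap]
    refine Nat.le_of_mul_le_mul_right (c := Nat.card ↥(A ⊓ σu.ker)) ?_ Nat.card_pos
    calc Nat.card B' * Nat.card ↥(W₁ ⊓ centralizer (B : Set X)) * Nat.card ↥(A ⊓ σu.ker)
        = Nat.card B * Nat.card ↥(W₁ ⊓ centralizer (B : Set X)) := by rw [mul_right_comm, h3]
      _ ≤ Nat.card A * Nat.card ↥(W₁ ⊓ centralizer (A : Set X)) :=
        h1.trans (Nat.mul_le_mul_left _ h2)
      _ = _ := by rw [← h4, mul_right_comm]
  have hoff : Nat.card (Additive ↥(sec W₁ (⊥ : Subgroup X))) ≤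
      Nat.card A' * Nat.card (fix A') := by
    have h1 := hbest' ⊥ bot_le
    have htop : fix (⊥ : Subgroup (Γ (Additive ↥(sec W₁ (⊥ : Subgroup X))))) = ⊤ :=
      top_le_iff.1 fun w _ b hb => by rw [mem_bot.1 hb, one_smul]
    rwa [Subgroup.card_bot, one_mul, htop, AddSubgroup.card_top] at h1
  -- the decomposition
  haveI : C.Normal := σu.normal_ker
  set π := QuotientGroup.kerLift σu with hπ
  have hπi : Function.Injective π := QuotientGroup.kerLift_injective σu
  have hrange : π.range = σu.range := by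
    refine le_antisymm ?_ fun y ⟨x, hx⟩ => ⟨QuotientGroup.mk x, hx⟩
    rintro _ ⟨x, rfl⟩
    obtain ⟨x, rfl⟩ := QuotientGroup.mk_surjective x
    exact ⟨x, rfl⟩
  have hA'le : A' ≤ π.range := hrange ▸ map_le_range σu A
  set T : Sylow p (X ⧸ C) := S.mapSurjective (QuotientGroup.mk'_surjective C) with hT
  have hmin : Cfsg.IsPMinimal p (X ⧸ C) := hM.isPMinimal_quotient hC
  have hOp : Cfsg.pCore p (X ⧸ C) = ⊥ := hM.pCore_quotient hC hQC
  have hvec := exists_moved π hπi hexpW hmin hOp T hA'le hel hne hoff hbest'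
  obtain ⟨-, M₀, ⟨hM₀, hTM₀⟩, -⟩ := hmin T
  have hmp := Bridge.minPar_of_hom π hπi hexpW hmin hOp T hM₀ hTM₀ hvec
  obtain ⟨A₀, -, hA₀⟩ := Bridge.exists_off hA'le hel hne hoff
  obtain ⟨r, E, hE, hfull⟩ := hmp.exists_decomp hA₀
  obtain ⟨i₀, hi₀, j₀, hj₀, t₀, hii, hjj, hij, ht1, ht2, htc⟩ :=
    exists_central_triple (by omega) hE hfull
  rw [hrange] at hi₀ hj₀ htc
  -- lifting to the normal closure of `A`
  set N := C.map τu with hN
  have hNc : (Nat.card N).Coprime p := by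
    have hQker : Q ≤ τu.ker := fun q hq => Units.ext (by
      show τ q = 1
      refine AddMonoidHom.ext fun v => ?_
      obtain ⟨w, rfl⟩ := cl_surj v
      show act U₁ Z₁ q (cl Z₁ w) = cl Z₁ w
      rw [act_cl, cl_eq_cl]
      have h1 := hc.comQ (commutator_mem_commutator (inv_mem w.2) hq)
      have e : ((⟨q * (w : X) * q⁻¹, (inferInstance : U₁.Normal).conj_mem w w.2 q⟩ : ↥U₁) : X)⁻¹ * w =
          (⁅(w : X)⁻¹, q⁆)⁻¹ := by
        simp only [commutatorElement_def]; group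
      rw [e]
      exact inv_mem h1)
    refine (Nat.Prime.coprime_iff_not_dvd hpp).2 (fun hd => ?_) |>.symm
    rw [hN, ← relIndex_ker] at hd
    refine not_dvd_relIndex_inf_normal S C (hd.trans (relIndex_dvd_of_le_left C ?_))
    exact hSC.trans hQker
  have hAN : ∀ a ∈ A, ∀ n ∈ N, Commute (τu a) n := fun a ha =>
    commute_of_small_degree hp hexpV N hNc (τu a) (by
      rintro _ ⟨c, hc', rfl⟩
      exact ⟨a * c * a⁻¹, (inferInstance : C.Normal).conj_mem c hc' a, by simp⟩)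
      (hω.act_pow_six hc h S.2 hQS ha)
  set L := normalClosure (A : Set X) with hL
  have hALe : A ≤ L := subset_normalClosure
  have hLN : ∀ l ∈ L, ∀ n ∈ N, Commute (τu l) n := by
    let K : Subgroup X :=
      { carrier := {x | ∀ c ∈ C, Commute (τu x) (τu c)}
        one_mem' := fun c _ => by rw [map_one]; exact Commute.one_left _
        mul_mem' := fun {x y} hx hy c hc => by rw [map_mul]; exact (hx c hc).mul_left (hy c hc)
        inv_mem' := fun {x} hx c hc => by rw [map_inv]; exact (hx c hc).inv_left }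
    have hKn : K.Normal := ⟨fun x hx g c hc => by
      have h1 : Commute (τu g * τu x * (τu g)⁻¹) (τu g * τu (g⁻¹ * c * g) * (τu g)⁻¹) :=
        (hx _ ((inferInstance : C.Normal).conj_mem' c hc g)).map (MulAut.conj (τu g)).toMonoidHom
      rw [← map_inv, ← map_mul, ← map_mul, ← map_mul, ← map_mul] at h1
      rwa [show g * (g⁻¹ * c * g) * g⁻¹ = c by group] at h1⟩
    have hLK : L ≤ K := normalClosure_le_normal fun a ha c hc => hAN a ha _ (mem_map_of_mem _ hc)
    rintro l hl _ ⟨c, hc, rfl⟩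
    exact hLK hl c hc
  have hLS : L ⊔ (S : Subgroup X) = ⊤ :=
    hM.sup_eq_top fun hle => h.notLe fun a ha => hle ⟨h.isMax.le ha, hALe ha⟩
  have hlift : ∀ x : X, σu x ^ 4 = 1 → ∃ l ∈ L, σu l = σu x := by
    intro x hx
    haveI : (L ⊔ C).Normal := inferInstance
    set q := QuotientGroup.mk' (L ⊔ C)
    have h4 : q x ^ 4 = 1 := by
      rw [← map_pow]
      refine (QuotientGroup.eq_one_iff _).2 (mem_sup_right (?_ : x ^ 4 ∈ C))
      show σu (x ^ 4) = 1
      rw [map_pow]; exact hx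
    obtain ⟨l, hl, s, hs, rfl⟩ := mem_sup_of_normal_left.1 (hLS ▸ mem_top x)
    obtain ⟨k, hk⟩ := S.2 ⟨s, hs⟩
    have hk' : q (l * s) ^ p ^ k = 1 := by
      rw [map_mul, show q l = 1 from (QuotientGroup.eq_one_iff l).2 (mem_sup_left hl), one_mul,
        ← map_pow, show s ^ p ^ k = 1 from congrArg Subtype.val hk, map_one]
    have hcop : Nat.Coprime 4 (p ^ k) := by
      rw [show (4 : ℕ) = 2 ^ 2 by norm_num]
      exact Nat.Coprime.pow 2 k ((Nat.coprime_primes Nat.prime_two hpp).2 (by omega))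
    have h1 := orderOf_eq_one_iff.1 (Nat.eq_one_of_dvd_coprimes hcop
      (orderOf_dvd_of_pow_eq_one h4) (orderOf_dvd_of_pow_eq_one hk'))
    obtain ⟨l', hl', c, hc, e⟩ := mem_sup_of_normal_left.1
      ((QuotientGroup.eq_one_iff _).1 h1 : l * s ∈ L ⊔ C)
    exact ⟨l', hl', by rw [← e, map_mul, show σu c = 1 from hc, mul_one]⟩
  have hfour : ∀ x : Γ (Additive ↥(sec W₁ (⊥ : Subgroup X))), x * x = t₀ → x ^ 4 = 1 :=
    fun x hx => by
      rw [show (4 : ℕ) = 2 * 2 by norm_num, pow_mul, pow_two, pow_two, hx, ht2]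
  obtain ⟨xi, hxi⟩ := hi₀
  obtain ⟨xj, hxj⟩ := hj₀
  obtain ⟨li, hliL, hli⟩ := hlift xi (by rw [hxi]; exact hfour _ hii)
  obtain ⟨lj, hljL, hlj⟩ := hlift xj (by rw [hxj]; exact hfour _ hjj)
  rw [hxi] at hli
  rw [hxj] at hlj
  set ℓ := ⁅li, lj⁆ with hℓ
  have hℓL : ℓ ∈ L := commutator_le_self L (commutator_mem_commutator hliL hljL)
  have hℓt : σu ℓ = t₀ := by rw [hℓ, map_commutatorElement, hli, hlj, hij]
  have hdiff : ∀ x y : X, σu x = σu y → τu (x⁻¹ * y) ∈ N := fun x y e =>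
    mem_map_of_mem τu (show σu (x⁻¹ * y) = 1 by rw [map_mul, map_inv, e, inv_mul_cancel])
  have hTc : ∀ l ∈ L, Commute (τu l) (τu ℓ) := by
    have hp_elem : ∀ y ∈ L, ∀ k : ℕ, y ^ p ^ k = 1 → Commute (τu y) (τu ℓ) := by
      intro y hy k hk
      set n := ⁅τu y, τu ℓ⁆ with hn
      have hnN : n ∈ N := by
        rw [hn, ← map_commutatorElement]
        refine mem_map_of_mem τu (show σu ⁅y, ℓ⁆ = 1 from ?_)
        rw [map_commutatorElement, hℓt, commutatorElement_eq_one_iff_mul_comm]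
        exact (htc _ ⟨y, rfl⟩).eq
      have hyn : Commute (τu y) n := hLN y hy n hnN
      have hpow : ∀ m : ℕ, ⁅τu y ^ m, τu ℓ⁆ = n ^ m := by
        intro m
        induction m with
        | zero => simp
        | succ m ih =>
          have e : ⁅τu y ^ (m + 1), τu ℓ⁆ = τu y ^ m * n * (τu y ^ m)⁻¹ * ⁅τu y ^ m, τu ℓ⁆ := by
            rw [hn, pow_succ]; simp only [commutatorElement_def]; group
          rw [e, ih, (hyn.pow_left m).eq, mul_inv_cancel_right, ← pow_succ']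
      have h1 := hpow (p ^ k)
      rw [← map_pow, hk, map_one, commutatorElement_one_left] at h1
      have h2 : orderOf n = 1 := Nat.eq_one_of_dvd_coprimes (Nat.Coprime.pow_right k hNc)
        (Subgroup.orderOf_dvd_natCard N hnN) (orderOf_dvd_of_pow_eq_one h1.symm)
      exact commutatorElement_eq_one_iff_mul_comm.1 (orderOf_eq_one_iff.1 h2)
    let K : Subgroup X := (centralizer ({τu ℓ} : Set (Γ (Additive ↥(sec U₁ Z₁))))).comap τu
    suffices hK : L ≤ K from fun l hl => (mem_centralizer_singleton_iff.1 (hK hl))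
    refine (closure_le K).2 fun y hy => ?_
    obtain ⟨a, ha, hay⟩ := Group.mem_conjugatesOfSet_iff.1 hy
    obtain ⟨g, rfl⟩ := isConj_iff.1 hay
    obtain ⟨k, hk⟩ := S.2 ⟨a, h.isMax.le ha⟩
    refine mem_centralizer_singleton_iff.2 (hp_elem (g * a * g⁻¹)
      (normalClosure_normal.conj_mem a (hALe ha) g) k ?_).eq
    rw [conj_pow, show a ^ p ^ k = 1 from congrArg Subtype.val hk, mul_one, mul_inv_cancel]
  have hT2 : τu ℓ * τu ℓ = 1 := by
    set I := τu li
    set J := τu lj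
    set n := τu (ℓ⁻¹ * (li * li)) with hn
    have hnN : n ∈ N := hdiff _ _ (by rw [hℓt, map_mul, hli, hii])
    have hsq : I * I = τu ℓ * n := by
      rw [hn, ← map_mul, ← map_mul, mul_inv_cancel_left]
    have hcJ : Commute (I * I) J := by
      rw [hsq]
      exact ((hTc lj hljL).symm).mul_left (hLN lj hljL n hnN).symm
    have hTdef : τu ℓ = I * J * I⁻¹ * J⁻¹ := by
      rw [hℓ, map_commutatorElement, commutatorElement_def]
    have hcI : Commute I (τu ℓ) := hTc li hliL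
    calc τu ℓ * τu ℓ = I * τu ℓ * I⁻¹ * τu ℓ := by rw [hcI.eq, mul_inv_cancel_right]
      _ = (I * I) * J * (I * I)⁻¹ * J⁻¹ := by rw [hTdef]; group
      _ = 1 := by rw [hcJ.eq, mul_inv_cancel_right, mul_inv_cancel]
  -- a fixed point in the coset
  let Ω : Set (Γ (Additive ↥(sec U₁ Z₁))) :=
    {z | ∃ l ∈ L, σu l = t₀ ∧ τu l = z ∧ z * z = 1}
  have hLn : L.Normal := normalClosure_normal
  letI : MulAction ↥(S : Subgroup X) ↥Ω :=
    { smul := fun s z => ⟨τu s * z.1 * (τu s)⁻¹, by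
        obtain ⟨l, hl, hlt, hlz, hz2⟩ := z.2
        refine ⟨s * l * (s : X)⁻¹, hLn.conj_mem l hl s, ?_, ?_, ?_⟩
        · rw [map_mul, map_mul, map_inv, hlt, (htc _ ⟨s, rfl⟩).eq, mul_inv_cancel_right]
        · rw [map_mul, map_mul, map_inv, hlz]
        · rw [show τu s * z.1 * (τu s)⁻¹ * (τu s * z.1 * (τu s)⁻¹) =
            τu s * (z.1 * z.1) * (τu s)⁻¹ by group, hz2, mul_one, mul_inv_cancel]⟩
      one_smul := fun z => Subtype.ext (by
        show τu ((1 : ↥(S : Subgroup X)) : X) * z.1 * (τu ((1 : ↥(S : Subgroup X)) : X))⁻¹ = z.1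
        simp)
      mul_smul := fun s t z => Subtype.ext (by
        show τu ((s * t : ↥(S : Subgroup X)) : X) * z.1 * (τu ((s * t : ↥(S : Subgroup X)) : X))⁻¹ =
          τu s * (τu t * z.1 * (τu t)⁻¹) * (τu s)⁻¹
        rw [Subgroup.coe_mul, map_mul]; group) }
  have hΩcard : ¬ p ∣ Nat.card ↥Ω := by
    let E2 : Subgroup (Γ (Additive ↥(sec U₁ Z₁))) :=
      { carrier := {n | n ∈ N ∧ n ∈ L.map τu ∧ n * n = 1}
        one_mem' := ⟨one_mem _, one_mem _, one_mul 1⟩
        mul_mem' := fun {m n} hm hn => ⟨mul_mem hm.1 hn.1, mul_mem hm.2.1 hn.2.1, by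
          obtain ⟨l, hl, e⟩ := hm.2.1
          have hc : Commute m n := e ▸ hLN l hl n hn.1
          rw [hc.symm.mul_mul_mul_comm, hm.2.2, hn.2.2, one_mul]⟩
        inv_mem' := fun {m} hm => ⟨inv_mem hm.1, inv_mem hm.2.1, by
          rw [← mul_inv_rev, hm.2.2, inv_one]⟩ }
    have hcard : Nat.card ↥E2 = Nat.card ↥Ω := by
      let f : ↥E2 → ↥Ω := fun n => ⟨τu ℓ * n.1, by
        obtain ⟨l', hl', e⟩ := n.2.2.1
        obtain ⟨c, hc, e'⟩ := n.2.1
        refine ⟨ℓ * l', mul_mem hℓL hl', ?_, by rw [map_mul, e], ?_⟩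
        · have h1 : c⁻¹ * l' ∈ C := hτσ _ (by rw [map_mul, map_inv, e, e', inv_mul_cancel])
          have h2 : σu l' = 1 := by
            have := mul_mem (hc : c ∈ C) h1
            rwa [mul_inv_cancel_left] at this
          rw [map_mul, h2, mul_one, hℓt]
        · have hc : Commute (τu ℓ) n.1 := hLN ℓ hℓL n.1 n.2.1
          rw [hc.symm.mul_mul_mul_comm, hT2, n.2.2.2, one_mul]⟩
      refine Nat.card_congr (Equiv.ofBijective f ⟨fun m n e => Subtype.ext
        (mul_left_cancel (congrArg Subtype.val e)), fun z => ?_⟩)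
      obtain ⟨l, hl, hlt, hlz, hz2⟩ := z.2
      set n := τu (ℓ⁻¹ * l) with hn
      have hnN : n ∈ N := hdiff _ _ (by rw [hℓt, hlt])
      have hzn : z.1 = τu ℓ * n := by rw [hn, ← map_mul, mul_inv_cancel_left, hlz]
      have hcomm : Commute (τu ℓ) n := hLN ℓ hℓL n hnN
      have hn2 : n * n = 1 := by
        rw [hzn, hcomm.symm.mul_mul_mul_comm, hT2, one_mul] at hz2
        exact hz2
      exact ⟨⟨n, hnN, mem_map_of_mem τu (mul_mem (inv_mem hℓL) hl), hn2⟩, Subtype.ext hzn.symm⟩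
    rw [← hcard]
    exact fun hd => (Nat.Prime.coprime_iff_not_dvd hpp).1 hNc.symm
      (hd.trans (Subgroup.card_dvd_of_le fun n hn => hn.1))
  haveI : Finite ↥Ω := Subtype.finite
  obtain ⟨z, hz⟩ := S.2.nonempty_fixed_point_of_prime_not_dvd_card ↥Ω hΩcard
  obtain ⟨l, hl, hlt, hlz, hz2⟩ := z.2
  have hzall : ∀ g : X, Commute (τu g) z.1 := by
    let K : Subgroup X := (centralizer ({z.1} : Set (Γ (Additive ↥(sec U₁ Z₁))))).comap τu
    suffices hK : K = ⊤ from fun g => (mem_centralizer_singleton_iff.1 (hK.symm ▸ mem_top g : g ∈ K))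
    rw [eq_top_iff, ← hLS]
    refine sup_le (fun g hg => mem_centralizer_singleton_iff.2 ?_) fun s hs =>
      mem_centralizer_singleton_iff.2 ?_
    · have hzn : z.1 = τu ℓ * τu (ℓ⁻¹ * l) := by rw [← map_mul, mul_inv_cancel_left, hlz]
      rw [hzn]
      exact ((hTc g hg).mul_right (hLN g hg _ (hdiff _ _ (by rw [hℓt, hlt])))).eq
    · exact mul_inv_eq_iff_eq_mul.1 (congrArg Subtype.val (hz (⟨s, hs⟩ : ↥(S : Subgroup X))))
  -- a central involution is a sign
  have hscalar : (∀ v, (z.1 : AddMonoid.End (Additive ↥(sec U₁ Z₁))) v = v) ∨ ∀ v, (z.1 : AddMonoid.End (Additive ↥(sec U₁ Z₁))) v = -v := by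
    let K : AddSubgroup (Additive ↥(sec U₁ Z₁)) :=
      { carrier := {v | (z.1 : AddMonoid.End (Additive ↥(sec U₁ Z₁))) v = v}
        zero_mem' := map_zero _
        add_mem' := fun {a b} (ha : (z.1 : AddMonoid.End (Additive ↥(sec U₁ Z₁))) a = a)
            (hb : (z.1 : AddMonoid.End (Additive ↥(sec U₁ Z₁))) b = b) => by
          show (z.1 : AddMonoid.End (Additive ↥(sec U₁ Z₁))) (a + b) = a + b
          rw [map_add, ha, hb]
        neg_mem' := fun {a} (ha : (z.1 : AddMonoid.End (Additive ↥(sec U₁ Z₁))) a = a) => by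
          show (z.1 : AddMonoid.End (Additive ↥(sec U₁ Z₁))) (-a) = -a
          rw [map_neg, ha] }
    obtain ⟨-, -, hirr⟩ := IsForm.irred hc
    rcases hirr K le_top (fun g _ v (hv : (z.1 : AddMonoid.End (Additive ↥(sec U₁ Z₁))) v = v) => by
        show (z.1 : AddMonoid.End (Additive ↥(sec U₁ Z₁))) (τ g v) = τ g v
        have e : ((z.1 * τu g : Γ (Additive ↥(sec U₁ Z₁))) : AddMonoid.End (Additive ↥(sec U₁ Z₁))) v = ((τu g * z.1 : Γ (Additive ↥(sec U₁ Z₁))) : AddMonoid.End (Additive ↥(sec U₁ Z₁))) v := by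
          rw [(hzall g).eq]
        exact e.trans (congrArg (τ g) hv)) with e | e
    · refine Or.inr fun v => ?_
      have h1 : (z.1 : AddMonoid.End (Additive ↥(sec U₁ Z₁))) v + v ∈ K := by
        show (z.1 : AddMonoid.End (Additive ↥(sec U₁ Z₁))) ((z.1 : AddMonoid.End (Additive ↥(sec U₁ Z₁))) v + v) = _
        rw [map_add, show (z.1 : AddMonoid.End (Additive ↥(sec U₁ Z₁))) ((z.1 : AddMonoid.End (Additive ↥(sec U₁ Z₁))) v) =
          ((z.1 * z.1 : Γ (Additive ↥(sec U₁ Z₁))) : AddMonoid.End (Additive ↥(sec U₁ Z₁))) v from rfl, hz2, add_comm]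
        rfl
      rw [e, AddSubgroup.mem_bot] at h1
      exact eq_neg_of_add_eq_zero_left h1
    · exact Or.inl fun v => (e.symm.le (AddSubgroup.mem_top v) : v ∈ K)
  apply ht1
  rw [← hlt]
  refine Units.ext (hω.spans l fun x y => ?_)
  rw [← hω.equiv]
  show ω ((τu l : AddMonoid.End (Additive ↥(sec U₁ Z₁))) x)
    ((τu l : AddMonoid.End (Additive ↥(sec U₁ Z₁))) y) = ω x y
  rw [hlz]
  rcases hscalar with hs | hs
  · rw [hs, hs]
  · rw [hs, hs, map_neg, map_neg, AddMonoidHom.neg_apply, neg_neg]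

end CfsgLib.JTransfer
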