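import Cfsg.Agent.Lib.JTransfer.Section
import Cfsg.Agent.Lib.PLocal.Thompson

/-!
# Replacement for abelian subgroups of largest order

Among the abelian subgroups of largest order of a `p`-group `S` outside a normal subgroup `Q` we
take one meeting the deep terms of the lower central series of `Q` as much as possible.  Such a
subgroup acts cubically on abelian normal sections of `Q` and quadratically on abelian normal
subgroups centralised by `Q`.
-/

set_option autoImplicit false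
set_option linter.unusedSectionVars false

open Subgroup
open scoped commutatorElement

namespace CfsgLib.JTransfer

open CfsgLib.PLocal

variable {G : Type*} [Group G]

/-- The subgroup generated by the commutators of `z` with the elements of `A`. -/
def orb (A : Subgroup G) (z : G) : Subgroup G := closure {w | ∃ a ∈ A, w = ⁅a, z⁆}

theorem orb_mem {A : Subgroup G} {z a : G} (ha : a ∈ A) : ⁅a, z⁆ ∈ orb A z :=
  subset_closure ⟨a, ha, rfl⟩

theorem orb_le {A N : Subgroup G} {z : G} (h : ∀ a ∈ A, ⁅a, z⁆ ∈ N) : orb A z ≤ N :=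
  (closure_le N).2 fun w ⟨a, ha, e⟩ => e ▸ h a ha

theorem orb_le_normal {A N : Subgroup G} [N.Normal] {z : G} (hz : z ∈ N) : orb A z ≤ N :=
  orb_le fun a _ => commutator_mem_of_normal N a hz

theorem conj_orb {A : Subgroup G} {z : G} {a : G} (ha : a ∈ A) {m : G} (hm : m ∈ orb A z) :
    a * m * a⁻¹ ∈ orb A z := by
  induction hm using closure_induction with
  | mem w hw =>
    obtain ⟨b, hb, rfl⟩ := hw
    have e : a * ⁅b, z⁆ * a⁻¹ = ⁅a * b, z⁆ * ⁅a, z⁆⁻¹ := by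
      simp only [commutatorElement_def]; group
    rw [e]
    exact mul_mem (orb_mem (mul_mem ha hb)) (inv_mem (orb_mem ha))
  | one => simp
  | mul x y _ _ hx hy =>
    rw [show a * (x * y) * a⁻¹ = (a * x * a⁻¹) * (a * y * a⁻¹) by group]
    exact mul_mem hx hy
  | inv x _ hx =>
    rw [show a * x⁻¹ * a⁻¹ = (a * x * a⁻¹)⁻¹ by group]
    exact inv_mem hx

theorem commute_orb {A : Subgroup G} {z : G}
    (h : ∀ a ∈ A, ∀ b ∈ A, Commute ⁅a, z⁆ ⁅b, z⁆) :
    ∀ x ∈ orb A z, ∀ y ∈ orb A z, Commute x y := by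
  have : IsMulCommutative ↥(orb A z) := Subgroup.isMulCommutative_closure (by
    rintro _ ⟨a, ha, rfl⟩ _ ⟨b, hb, rfl⟩
    exact h a ha b hb)
  intro x hx y hy
  exact congrArg Subtype.val (mul_comm' (⟨x, hx⟩ : ↥(orb A z)) ⟨y, hy⟩)

theorem mem_centralizer_orb {A : Subgroup G} {z c : G} (h : ∀ a ∈ A, Commute c ⁅a, z⁆) :
    c ∈ centralizer (orb A z : Set G) := by
  rw [orb, centralizer_closure, mem_centralizer_iff]
  rintro _ ⟨a, ha, rfl⟩
  exact (h a ha).eq.symm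

theorem exists_mul_of_commute {M C : Subgroup G} (h : ∀ m ∈ M, ∀ c ∈ C, m * c = c * m) {x : G}
    (hx : x ∈ M ⊔ C) : ∃ m ∈ M, ∃ c ∈ C, m * c = x := by
  have hle : M ≤ normalizer (C : Set G) := fun m hm => by
    rw [mem_normalizer_iff]
    intro c
    constructor
    · intro hc
      rwa [h m hm c hc, mul_inv_cancel_right]
    · intro hc
      have e := h m hm _ hc
      have : m * c * m⁻¹ = c := mul_left_cancel (a := m) (by rw [e]; group)
      rwa [this] at hc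
  have : x ∈ ((M ⊔ C : Subgroup G) : Set G) := hx
  rw [coe_mul_of_left_le_normalizer_right M C hle] at this
  obtain ⟨m, hm, c, hc, e⟩ := this
  exact ⟨m, hm, c, hc, e⟩

variable [Finite G]

/-- The replacement: `M (A ∩ C(M))` is again of largest order and every element of `M` is a single
commutator modulo `A`. -/
theorem replacement {S A : Subgroup G} (hA : IsMaxElemIn 0 S A) {z : G} (hMS : orb A z ≤ S)
    (hM : ∀ x ∈ orb A z, ∀ y ∈ orb A z, Commute x y) :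
    IsMaxElemIn 0 S (orb A z ⊔ A ⊓ centralizer (orb A z : Set G)) ∧
      ∀ m ∈ orb A z, ∃ a ∈ A, ⁅a, z⁆⁻¹ * m ∈ A := by
  classical
  have hAc : ∀ a ∈ A, ∀ b ∈ A, a * b = b * a := fun a ha b hb => elemAb_commute hA.elem ha hb
  set f : G → G := fun a => ⁅a, z⁆ with hf
  set M : Subgroup G := orb A z with hMdef
  have hfM : ∀ a ∈ A, f a ∈ M := fun a ha => orb_mem ha
  set C : Subgroup G := A ⊓ centralizer (M : Set G) with hCdef
  have hcomm : ∀ (m : ↥M) (c : ↥C), Commute (M.subtype m) (C.subtype c) := fun m c =>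
    mem_centralizer_iff.1 c.2.2 m m.2
  set φ : ↥M × ↥C →* G := MonoidHom.noncommCoprod M.subtype C.subtype hcomm with hφ
  have hsupr : M ⊔ C = φ.range := by
    refine le_antisymm (sup_le (fun m hm => ⟨(⟨m, hm⟩, 1), by simp [hφ]⟩)
      fun c hc => ⟨(1, ⟨c, hc⟩), by simp [hφ]⟩) ?_
    rintro _ ⟨⟨m, c⟩, rfl⟩
    exact mul_mem_sup m.2 c.2
  have hrS : φ.range ≤ S := hsupr ▸ sup_le hMS (inf_le_left.trans hA.le)
  have hrel : Cfsg.IsElementaryAbelian 0 φ.range := by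
    refine elemAb_zero_iff.2 (isMulCommutative_of_forall ?_)
    rintro _ ⟨q, rfl⟩ _ ⟨r, rfl⟩
    rw [← map_mul, ← map_mul]
    congr 1
    ext
    · exact (hM _ q.1.2 _ r.1.2).eq
    · exact hAc _ q.2.2.1 _ r.2.2.1
  have hrange : Nat.card φ.range ≤ Nat.card A := hA.2.2 _ hrS hrel
  have hkerle : Nat.card φ.ker ≤ Nat.card ↥(M ⊓ A) := by
    have hval : ∀ q : φ.ker, ((q.1.1 : G)) * (q.1.2 : G) = 1 := fun q => q.2
    refine Nat.card_le_card_of_injective (fun q => ⟨q.1.1, q.1.1.2, ?_⟩) ?_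
    · rw [eq_inv_of_mul_eq_one_left (hval q)]
      exact A.inv_mem q.1.2.2.1
    · intro q r h
      have h1 : (q.1.1 : G) = r.1.1 := by simpa using congrArg Subtype.val h
      have h2 := hval q
      rw [h1, ← hval r] at h2
      exact Subtype.ext (Prod.ext (Subtype.ext h1) (Subtype.ext (mul_left_cancel h2)))
  have hprod : Nat.card φ.range * Nat.card φ.ker = Nat.card ↥M * Nat.card ↥C := by
    rw [← Nat.card_prod (↥M) (↥C), Subgroup.card_eq_card_quotient_mul_card_subgroup φ.ker,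
      Nat.card_congr (QuotientGroup.quotientKerEquivRange φ).toEquiv]
  set C' := C.subgroupOf A with hC'
  set D' := (M ⊓ A).subgroupOf M with hD'
  have hA' : Nat.card A = Nat.card (↥A ⧸ C') * Nat.card C := by
    rw [Subgroup.card_eq_card_quotient_mul_card_subgroup C']
    congr 1
    exact Nat.card_congr (subgroupOfEquivOfLe inf_le_left).toEquiv
  have hM' : Nat.card M = Nat.card (↥M ⧸ D') * Nat.card ↥(M ⊓ A) := by
    rw [Subgroup.card_eq_card_quotient_mul_card_subgroup D']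
    congr 1
    exact Nat.card_congr (subgroupOfEquivOfLe inf_le_left).toEquiv
  let ψ : ↥A ⧸ C' → ↥M ⧸ D' := fun q =>
    QuotientGroup.mk (⟨f q.out, hfM _ q.out.2⟩ : ↥M)
  have hinj : Function.Injective ψ := by
    intro q r h
    rw [← QuotientGroup.out_eq' q, ← QuotientGroup.out_eq' r, QuotientGroup.eq]
    simp only [hC', mem_subgroupOf]
    have h0 : (f q.out)⁻¹ * f r.out ∈ M ⊓ A := by
      refine ⟨M.mul_mem (M.inv_mem (hfM _ q.out.2)) (hfM _ r.out.2), ?_⟩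
      simpa [ψ, hD', QuotientGroup.eq, mem_subgroupOf] using h
    set a' : G := ((q.out : ↥A) : G) with ha'
    set a : G := ((r.out : ↥A) : G) with ha
    have ha'A : a' ∈ A := q.out.2
    have haA : a ∈ A := r.out.2
    set d : G := a'⁻¹ * a with hd
    have hdA : d ∈ A := A.mul_mem (A.inv_mem ha'A) haA
    have hconjY : a' * f d * a'⁻¹ ∈ M := conj_orb ha'A (hfM d hdA)
    have e1 : f a = a' * f d * a'⁻¹ * f a' := by
      simp only [hf, hd, commutatorElement_def]; group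
    have e2 : a' * f d * a'⁻¹ = (f a')⁻¹ * f a := by
      have := (hM _ hconjY _ (hfM a' ha'A)).eq
      rw [e1, this]; group
    have hfd : f d ∈ A := by
      have h4 : a' * f d * a'⁻¹ ∈ A := by rw [e2]; exact h0.2
      have h3 := A.mul_mem (A.mul_mem (A.inv_mem ha'A) h4) ha'A
      have e3 : a'⁻¹ * (a' * f d * a'⁻¹) * a' = f d := by group
      rwa [e3] at h3
    have hcen : ∀ a₁ ∈ A, f a₁ * d = d * f a₁ := by
      intro a₁ ha₁
      have e3 : a₁ * f d * a₁⁻¹ = f d := by rw [hAc a₁ ha₁ _ hfd, mul_inv_cancel_right]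
      have e4 : f (a₁ * d) = f d * f a₁ := by
        calc f (a₁ * d) = a₁ * f d * a₁⁻¹ * f a₁ := by simp only [hf, commutatorElement_def]; group
          _ = _ := by rw [e3]
      have e5 : f (d * a₁) = d * f a₁ * d⁻¹ * f d := by
        simp only [hf, commutatorElement_def]; group
      rw [hAc a₁ ha₁ d hdA] at e4
      rw [e5, (hM _ (hfM d hdA) _ (hfM a₁ ha₁)).eq] at e4
      exact (mul_inv_eq_iff_eq_mul.1 (mul_right_cancel e4)).symm
    exact ⟨hdA, mem_centralizer_orb fun a₁ ha₁ => (hcen a₁ ha₁).symm⟩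
  have hle₁ : Nat.card (↥A ⧸ C') ≤ Nat.card (↥M ⧸ D') := Nat.card_le_card_of_injective ψ hinj
  have hge : Nat.card A ≤ Nat.card φ.range := by
    refine Nat.le_of_mul_le_mul_right (c := Nat.card ↥(M ⊓ A)) ?_ Nat.card_pos
    calc Nat.card A * Nat.card ↥(M ⊓ A)
        ≤ Nat.card (↥M ⧸ D') * Nat.card C * Nat.card ↥(M ⊓ A) := by
          rw [hA']; exact Nat.mul_le_mul_right _ (Nat.mul_le_mul_right _ hle₁)
      _ = Nat.card M * Nat.card C := by rw [hM', mul_right_comm]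
      _ = Nat.card φ.range * Nat.card φ.ker := hprod.symm
      _ ≤ _ := Nat.mul_le_mul_left _ hkerle
  refine ⟨by rw [hsupr]; exact hA.of_card_le hrS hrel hge, fun m hm => ?_⟩
  have hle : Nat.card (↥M ⧸ D') ≤ Nat.card (↥A ⧸ C') := by
    have h1 : Nat.card (↥M ⧸ D') * Nat.card ↥(M ⊓ A) * Nat.card C ≤
        Nat.card (↥A ⧸ C') * Nat.card C * Nat.card ↥(M ⊓ A) := by
      rw [← hM', ← hA', ← hprod]
      exact Nat.mul_le_mul hrange hkerle
    rw [mul_right_comm (Nat.card (↥A ⧸ C'))] at h1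
    exact Nat.le_of_mul_le_mul_right (Nat.le_of_mul_le_mul_right h1 Nat.card_pos) Nat.card_pos
  have hsurj : Function.Surjective ψ := (hinj.bijective_of_nat_card_le hle).2
  obtain ⟨q, hq⟩ := hsurj (QuotientGroup.mk (⟨m, hm⟩ : ↥M))
  refine ⟨q.out, q.out.2, ?_⟩
  simp only [ψ, QuotientGroup.eq, hD', mem_subgroupOf] at hq
  exact hq.2

/-- The weight of `A`: its intersections with the lower central series of `Q`, deeper terms
dominating. -/
noncomputable def weight (Q : Subgroup G) (n : ℕ) (A : Subgroup G) : ℕ :=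
  ∑ k ∈ Finset.range n,
    Nat.card ↥(A ⊓ Subgroup.lowerCentralSeries Q k) * (Nat.card G + 1) ^ k

/-- An abelian subgroup of largest order outside `Q` of largest weight. -/
structure Chosen (S Q A : Subgroup G) : Prop where
  isMax : IsMaxElemIn 0 S A
  notLe : ¬ A ≤ Q
  maximal : ∃ n, Subgroup.lowerCentralSeries Q n = ⊥ ∧ ∀ B, IsMaxElemIn 0 S B → ¬ B ≤ Q →
    weight Q n B ≤ weight Q n A

theorem exists_chosen {p : ℕ} [Fact p.Prime] {S Q A₀ : Subgroup G} (hQ : IsPGroup p Q)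
    (hA₀ : IsMaxElemIn 0 S A₀) (h₀ : ¬ A₀ ≤ Q) : ∃ A, Chosen S Q A := by
  classical
  have : Group.IsNilpotent ↥Q := hQ.isNilpotent
  obtain ⟨n, hn⟩ := (Subgroup.isNilpotent_iff_lowerCentralSeries Q).1
    (inferInstance : Group.IsNilpotent ↥Q)
  obtain ⟨A, hA, hmax⟩ := Set.exists_max_image {B | IsMaxElemIn 0 S B ∧ ¬ B ≤ Q} (weight Q n)
    (Set.toFinite _) ⟨A₀, hA₀, h₀⟩
  exact ⟨A, hA.1, hA.2, n, hn, fun B h1 h2 => hmax B ⟨h1, h2⟩⟩

theorem lex_lt {N : ℕ} (f g : ℕ → ℕ) (hf : ∀ k, f k < N) :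
    ∀ n k₀, k₀ < n → f k₀ < g k₀ → (∀ k, k₀ < k → k < n → f k ≤ g k) →
      ∑ k ∈ Finset.range n, f k * N ^ k < ∑ k ∈ Finset.range n, g k * N ^ k := by
  have hbound : ∀ n, ∑ k ∈ Finset.range n, f k * N ^ k < N ^ n := by
    intro n
    induction n with
    | zero => simp
    | succ n ih =>
      rw [Finset.sum_range_succ]
      calc ∑ k ∈ Finset.range n, f k * N ^ k + f n * N ^ n < N ^ n + f n * N ^ n := by omega
        _ = (f n + 1) * N ^ n := by ring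
        _ ≤ N * N ^ n := Nat.mul_le_mul_right _ (hf n)
        _ = N ^ (n + 1) := by ring
  intro n
  induction n with
  | zero => intro k₀ h; omega
  | succ n ih =>
    intro k₀ hk hlt hle
    rw [Finset.sum_range_succ, Finset.sum_range_succ]
    rcases eq_or_lt_of_le (Nat.lt_succ_iff.1 hk) with rfl | h
    · calc ∑ k ∈ Finset.range k₀, f k * N ^ k + f k₀ * N ^ k₀ < N ^ k₀ + f k₀ * N ^ k₀ :=
          Nat.add_lt_add_right (hbound k₀) _
        _ = (f k₀ + 1) * N ^ k₀ := by ring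
        _ ≤ g k₀ * N ^ k₀ := Nat.mul_le_mul_right _ hlt
        _ ≤ _ := Nat.le_add_left _ _
    · exact add_lt_add_of_lt_of_le (ih k₀ h hlt fun k h1 h2 => hle k h1 (by omega))
        (Nat.mul_le_mul_right _ (hle n h (by omega)))

variable {p : ℕ} [Fact p.Prime] {S Q A : Subgroup G} [hQn : Q.Normal]

/-- No replacement increases the weight. -/
theorem Chosen.inf_centralizer_le (h : Chosen S Q A) (hQS : Q ≤ S) {z : G} (hz : z ∈ Q)
    (hM : ∀ x ∈ orb A z, ∀ y ∈ orb A z, Commute x y) (hMA : ¬ orb A z ≤ A) :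
    A ⊓ centralizer (orb A z : Set G) ≤ Q := by
  classical
  by_contra hC
  set M := orb A z with hMdef
  set L := Subgroup.lowerCentralSeries Q with hLdef
  have hMQ : M ≤ Q := orb_le_normal hz
  obtain ⟨n, hn, hmax⟩ := h.maximal
  set A' := M ⊔ A ⊓ centralizer (M : Set G) with hA'
  have hA'max : IsMaxElemIn 0 S A' := (replacement h.isMax (hMQ.trans hQS) hM).1
  have hL0 : L 0 = Q := Subgroup.lowerCentralSeries_zero Q
  have hn0 : 0 < n := Nat.pos_of_ne_zero fun e => hMA (le_trans hMQ (by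
    rw [← hL0, ← e, hLdef, hn]; exact bot_le))
  obtain ⟨k₀, hk₀, hk₀max⟩ := ((Finset.range n).filter fun k => ¬ M ⊓ L k ≤ A).exists_max_image id
    ⟨0, Finset.mem_filter.2 ⟨Finset.mem_range.2 hn0, by rwa [hL0, inf_eq_left.2 hMQ]⟩⟩
  simp only [Finset.mem_filter, Finset.mem_range, id] at hk₀ hk₀max
  have hdeep : ∀ k, k₀ < k → M ⊓ L k ≤ A := by
    intro k hk
    by_cases hkn : k < n
    · by_contra hc
      exact absurd (hk₀max k ⟨hkn, hc⟩) (by omega)
    · refine le_trans inf_le_right (le_trans ?_ bot_le)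
      rw [← hn]
      exact Subgroup.lowerCentralSeries_antitone Q (by omega)
  have hAc : ∀ a ∈ A, ∀ b ∈ A, a * b = b * a := fun a ha b hb =>
    elemAb_commute h.isMax.elem ha hb
  have hsub : ∀ k, k₀ ≤ k → A ⊓ L k ≤ A' ⊓ L k := by
    intro k hk x hx
    refine ⟨mem_sup_right ⟨hx.1, mem_centralizer_orb fun e he => ?_⟩, hx.2⟩
    have hfx : ⁅x, z⁆ ∈ A := by
      refine hdeep (k + 1) (by omega) ⟨orb_mem hx.1, ?_⟩
      rw [hLdef, Subgroup.lowerCentralSeries_succ]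
      exact commutator_mem_commutator hx.2 hz
    have e1 : e * ⁅x, z⁆ * e⁻¹ = ⁅x, z⁆ := by rw [hAc e he _ hfx, mul_inv_cancel_right]
    have e2 : ⁅e * x, z⁆ = ⁅x, z⁆ * ⁅e, z⁆ := by
      calc ⁅e * x, z⁆ = e * ⁅x, z⁆ * e⁻¹ * ⁅e, z⁆ := by simp only [commutatorElement_def]; group
        _ = _ := by rw [e1]
    have e3 : ⁅x * e, z⁆ = x * ⁅e, z⁆ * x⁻¹ * ⁅x, z⁆ := by
      simp only [commutatorElement_def]; group
    rw [hAc e he x hx.1, e3, (hM _ (orb_mem hx.1) _ (orb_mem he)).eq] at e2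
    exact mul_inv_eq_iff_eq_mul.1 (mul_right_cancel e2)
  refine absurd (hmax A' hA'max fun hle => hC (le_sup_right.trans hle)) (not_le.2 ?_)
  refine lex_lt _ _ (fun k => Nat.lt_succ_of_le (Subgroup.card_le_card_group _)) n k₀ hk₀.1 ?_
    fun k hk _ => Subgroup.card_le_of_le (hsub k hk.le)
  refine lt_of_le_of_ne (Subgroup.card_le_of_le (hsub k₀ le_rfl)) fun e => hk₀.2 ?_
  intro m hm
  have heq := Subgroup.eq_of_le_of_card_ge (hsub k₀ le_rfl) e.ge
  exact (heq.symm.le (⟨mem_sup_left hm.1, hm.2⟩ : m ∈ A' ⊓ L k₀)).1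

/-- Every double commutator is a single one modulo `A`, with an element of `A ∩ Q`. -/
theorem Chosen.key (h : Chosen S Q A) (hS : IsPGroup p S) (hQS : Q ≤ S) {z : G} (hz : z ∈ Q)
    (hM : ∀ x ∈ orb A z, ∀ y ∈ orb A z, Commute x y) :
    ∀ a ∈ A, ∀ b ∈ A, ∃ c ∈ A ⊓ Q, ⁅c, z⁆⁻¹ * ⁅a, ⁅b, z⁆⁆ ∈ A := by
  classical
  intro a ha b hb
  have hAc : ∀ a ∈ A, ∀ b ∈ A, a * b = b * a := fun a ha b hb =>
    elemAb_commute h.isMax.elem ha hb
  set M := orb A z with hMdef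
  have hdM : ∀ e ∈ A, ∀ m ∈ M, ⁅e, m⁆ ∈ M := fun e he m hm => by
    rw [commutatorElement_def]
    exact mul_mem (conj_orb he hm) (inv_mem hm)
  by_cases hMA : M ≤ A
  · refine ⟨1, one_mem _, ?_⟩
    rw [commutatorElement_one_left, inv_one, one_mul]
    exact hMA (hdM a ha _ (orb_mem hb))
  have hCQ := h.inf_centralizer_le hQS hz hM hMA
  have hMQ : M ≤ Q := orb_le_normal hz
  obtain ⟨c, hc, hcm⟩ := (replacement h.isMax (hMQ.trans hQS) hM).2 ⁅a, ⁅b, z⁆⁆
    (hdM a ha _ (orb_mem hb))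
  refine ⟨c, ⟨hc, ?_⟩, hcm⟩
  by_contra hcQ
  -- the operators on `M`
  have hd2 : ∀ x ∈ A, ∀ y ∈ A, ∀ m : G, ⁅x, ⁅y, m⁆⁆ * ⁅y, m⁆ * ⁅x, m⁆ = ⁅x * y, m⁆ := fun x _ y _ m => by
    simp only [commutatorElement_def]; group
  have hsymm : ∀ x ∈ A, ∀ y ∈ A, ∀ m : G, (∀ x ∈ A, ⁅x, m⁆ ∈ M) → ⁅x, ⁅y, m⁆⁆ = ⁅y, ⁅x, m⁆⁆ := by
    intro x hx y hy m hmM
    have e1 := hd2 x hx y hy m
    rw [hAc x hx y hy, ← hd2 y hy x hx m, mul_assoc, mul_assoc,
      (hM _ (hmM y hy) _ (hmM x hx)).eq] at e1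
    exact mul_right_cancel e1
  have hmulr : ∀ x ∈ A, ∀ u ∈ M, ∀ v ∈ M, ⁅x, u * v⁆ = ⁅x, u⁆ * ⁅x, v⁆ := by
    intro x hx u hu v hv
    calc ⁅x, u * v⁆ = ⁅x, u⁆ * (u * ⁅x, v⁆ * u⁻¹) := by simp only [commutatorElement_def]; group
      _ = _ := by rw [(hM u hu _ (hdM x hx v hv)).eq, mul_inv_cancel_right]
  -- `[c, m] = [a, [b, m]]` on `M`
  have hδ : ∀ m ∈ M, ⁅c, m⁆ = ⁅a, ⁅b, m⁆⁆ := by
    intro m hm
    induction hm using closure_induction with
    | mem w hw =>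
      obtain ⟨e, he, rfl⟩ := hw
      have hcent : ⁅e, ⁅c, z⁆⁻¹ * ⁅a, ⁅b, z⁆⁆⁆ = 1 :=
        commutatorElement_eq_one_iff_mul_comm.2 (hAc e he _ hcm)
      have h1 : ⁅e, ⁅a, ⁅b, z⁆⁆⁆ = ⁅e, ⁅c, z⁆⁆ := by
        calc ⁅e, ⁅a, ⁅b, z⁆⁆⁆ = ⁅e, ⁅c, z⁆ * (⁅c, z⁆⁻¹ * ⁅a, ⁅b, z⁆⁆)⁆ := by rw [mul_inv_cancel_left]
          _ = ⁅e, ⁅c, z⁆⁆ * ⁅e, ⁅c, z⁆⁻¹ * ⁅a, ⁅b, z⁆⁆⁆ :=
            hmulr e he _ (orb_mem hc) _ (mul_mem (inv_mem (orb_mem hc)) (hdM a ha _ (orb_mem hb)))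
          _ = _ := by rw [hcent, mul_one]
      rw [hsymm c hc e he z (fun x hx => orb_mem hx), ← h1,
        hsymm e he a ha _ (fun x hx => hdM x hx _ (orb_mem hb)),
        hsymm e he b hb z (fun x hx => orb_mem hx)]
    | one => simp
    | mul u v hu hv ihu ihv =>
      rw [hmulr c hc u hu v hv, hmulr b hb u hu v hv,
        hmulr a ha _ (hdM b hb u hu) _ (hdM b hb v hv), ihu, ihv]
    | inv u hu ihu =>
      have key : ∀ x ∈ A, ∀ u ∈ M, ⁅x, u⁻¹⁆ = ⁅x, u⁆⁻¹ := fun x hx u hu =>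
        eq_inv_of_mul_eq_one_right (by
          rw [← hmulr x hx u hu _ (inv_mem hu), mul_inv_cancel, commutatorElement_one_right])
      rw [key c hc u hu, key b hb u hu, key a ha _ (hdM b hb u hu), ihu]
  by_cases h2 : ∀ x ∈ A, ∀ y ∈ A, ∀ m ∈ M, ⁅x, ⁅y, m⁆⁆ = 1
  · exact hcQ (hCQ ⟨hc, mem_centralizer_orb fun e he =>
      commutatorElement_eq_one_iff_mul_comm.1 (by rw [hδ _ (orb_mem he)]; exact h2 a ha b hb _ (orb_mem he))⟩)
  push Not at h2
  obtain ⟨X, ⟨hXM, hXinv, x₁, hx₁, y₁, hy₁, m₁, hm₁, hne⟩, hmin⟩ := Set.Finite.exists_minimal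
    (s := {X : Subgroup G | X ≤ M ∧ (∀ e ∈ A, ∀ x ∈ X, e * x * e⁻¹ ∈ X) ∧
      ∃ x ∈ A, ∃ y ∈ A, ∃ m ∈ X, ⁅x, ⁅y, m⁆⁆ ≠ 1})
    (Set.toFinite _) ⟨M, le_rfl, fun e he x hx => conj_orb he hx, h2⟩
  have hXne : X ≠ ⊥ := fun e => by
    rw [e, mem_bot] at hm₁
    rw [hm₁, commutatorElement_one_right, commutatorElement_one_right] at hne
    exact hne rfl
  have hXA : ⁅X, A⁆ ≤ X := by
    rw [commutator_le]
    intro x hx e he
    rw [commutatorElement_def, mul_assoc, mul_assoc, ← mul_assoc e]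
    exact mul_mem hx (hXinv e he _ (inv_mem hx))
  have hlow : ∀ e ∈ A, ∀ m ∈ X, ∀ x ∈ A, ∀ y ∈ A, ⁅x, ⁅y, ⁅e, m⁆⁆⁆ = 1 := by
    intro e he m hm x hx y hy
    by_contra hne'
    refine commutator_ne hS (hXM.trans (hMQ.trans hQS)) h.isMax.le hXne (le_antisymm hXA
      (hmin ⟨hXA.trans hXM, fun g hg w hw => ?_, x, hx, y, hy, ⁅e, m⁆, ?_, hne'⟩ hXA))
    · induction hw using Subgroup.closure_induction with
      | mem w hw =>
        obtain ⟨u, hu, v, hv, rfl⟩ := hw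
        have e' : g * ⁅u, v⁆ * g⁻¹ = ⁅g * u * g⁻¹, g * v * g⁻¹⁆ := by
          simp only [commutatorElement_def]; group
        rw [e', hAc g hg v hv, mul_inv_cancel_right]
        exact commutator_mem_commutator (hXinv g hg u hu) hv
      | one => simp
      | mul u v _ _ hu hv =>
        rw [show g * (u * v) * g⁻¹ = (g * u * g⁻¹) * (g * v * g⁻¹) by group]
        exact mul_mem hu hv
      | inv u _ hu =>
        rw [show g * u⁻¹ * g⁻¹ = (g * u * g⁻¹)⁻¹ by group]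
        exact inv_mem hu
    · rw [← commutatorElement_inv]
      exact inv_mem (commutator_mem_commutator hm he)
  have hm₁M : m₁ ∈ M := hXM hm₁
  have hM₁ : orb A m₁ ≤ M := orb_le fun e he => hdM e he _ hm₁M
  refine hcQ (h.inf_centralizer_le hQS (hMQ hm₁M)
    (fun x hx y hy => hM x (hM₁ hx) y (hM₁ hy)) (fun hle => hne ?_) ⟨hc, mem_centralizer_orb fun e he =>
      commutatorElement_eq_one_iff_mul_comm.1 (by rw [hδ _ (hdM e he _ hm₁M)]; exact hlow e he _ hm₁ a ha b hb)⟩)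
  exact commutatorElement_eq_one_iff_mul_comm.2 (hAc x₁ hx₁ _ (hle (orb_mem hy₁)))

/-- Cubic action on isotropic orbits modulo a normal subgroup containing `⁅U, Q⁆`. -/
theorem Chosen.cubic (h : Chosen S Q A) (hS : IsPGroup p S) (hQS : Q ≤ S) {U V : Subgroup G}
    [U.Normal] [hV : V.Normal] (hUQ : U ≤ Q) (hUQV : ⁅U, Q⁆ ≤ V) {z : G} (hz : z ∈ U)
    (hM : ∀ a ∈ A, ∀ b ∈ A, ⁅⁅a, z⁆, ⁅b, z⁆⁆ ∈ (⊥ : Subgroup G)) :
    ∀ a ∈ A, ∀ b ∈ A, ∀ e ∈ A, ⁅e, ⁅a, ⁅b, z⁆⁆⁆ ∈ V := by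
  intro a ha b hb e he
  obtain ⟨c, hc, hcm⟩ := h.key hS hQS (hUQ hz)
    (commute_orb fun a ha b hb => commutatorElement_eq_one_iff_mul_comm.1 (mem_bot.1 (hM a ha b hb)))
    a ha b hb
  have hcz : ⁅c, z⁆ ∈ V := by
    rw [← commutatorElement_inv]
    exact inv_mem (hUQV (commutator_mem_commutator hz hc.2))
  have e1 : e * (⁅c, z⁆⁻¹ * ⁅a, ⁅b, z⁆⁆) * e⁻¹ = ⁅c, z⁆⁻¹ * ⁅a, ⁅b, z⁆⁆ := by
    rw [elemAb_commute h.isMax.elem he hcm, mul_inv_cancel_right]
  have e2 : ⁅e, ⁅a, ⁅b, z⁆⁆⁆ = e * ⁅c, z⁆ * e⁻¹ * (e * (⁅c, z⁆⁻¹ * ⁅a, ⁅b, z⁆⁆) * e⁻¹) *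
      ⁅a, ⁅b, z⁆⁆⁻¹ := by
    simp only [commutatorElement_def]; group
  rw [e1, mul_assoc, mul_inv_cancel_right] at e2
  rw [e2]
  exact mul_mem (hV.conj_mem _ hcz e) (inv_mem hcz)

/-- Cubic action on abelian normal subgroups. -/
theorem Chosen.deg_three (h : Chosen S Q A) (hS : IsPGroup p S) (hQS : Q ≤ S) {U V : Subgroup G}
    [U.Normal] [V.Normal] (hUQ : U ≤ Q) (hUQV : ⁅U, Q⁆ ≤ V) (hab : ∀ x ∈ U, ∀ y ∈ U, Commute x y)
    {g : G} (hg : g ∈ A) : Deg g 3 U V := fun u hu =>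
  h.cubic hS hQS hUQ hUQV hu (fun a _ b _ => mem_bot.2 (commutatorElement_eq_one_iff_mul_comm.2
    (hab _ (commutator_mem_of_normal U a hu) _ (commutator_mem_of_normal U b hu)))) g hg g hg g hg

/-- Quadratic action on abelian normal subgroups centralised by `Q`. -/
theorem Chosen.quadratic (h : Chosen S Q A) (hS : IsPGroup p S) (hQS : Q ≤ S) {W : Subgroup G}
    [W.Normal] (hWQ : W ≤ Q) (hab : ∀ x ∈ W, ∀ y ∈ W, Commute x y)
    (hc : ∀ w ∈ W, ∀ q ∈ Q, Commute q w) :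
    ∀ a ∈ A, ∀ b ∈ A, ∀ w ∈ W, ⁅a, ⁅b, w⁆⁆ = 1 := by
  classical
  intro a ha b hb w hw
  have hAc : ∀ a ∈ A, ∀ b ∈ A, a * b = b * a := fun a ha b hb =>
    elemAb_commute h.isMax.elem ha hb
  set M := orb A w with hMdef
  have hMW : M ≤ W := orb_le_normal hw
  by_cases hMA : M ≤ A
  · exact commutatorElement_eq_one_iff_mul_comm.2 (hAc a ha _ (hMA (orb_mem hb)))
  exfalso
  have hM : ∀ x ∈ M, ∀ y ∈ M, Commute x y := fun x hx y hy => hab x (hMW hx) y (hMW hy)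
  have hCQ := h.inf_centralizer_le hQS (hWQ hw) hM hMA
  set C := A ⊓ centralizer (M : Set G) with hC
  have hCW : ∀ c ∈ C, ∀ x ∈ W, Commute c x := fun c hc' x hx => hc x hx c (hCQ hc')
  have hmax := (replacement h.isMax ((hMW.trans hWQ).trans hQS) hM).1
  have hBel : Cfsg.IsElementaryAbelian 0 (W ⊔ C) := elemAb_sup
    (elemAb_zero_iff.2 (isMulCommutative_of_forall fun x hx y hy => (hab x hx y hy).eq))
    (elemAb_of_le h.isMax.elem inf_le_left) (fun x hx c hc' => (hCW c hc' x hx).eq)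
  have heq : M ⊔ C = W ⊔ C := hmax.eq_of_le
    (sup_le (hWQ.trans hQS) (inf_le_left.trans h.isMax.le)) hBel (sup_le_sup_right hMW _)
  have hw' : w ∈ M ⊔ C := heq ▸ mem_sup_left hw
  obtain ⟨m, hm, c, hc', e⟩ := CfsgLib.JTransfer.exists_mul_of_commute
    (fun m hm c hc' => (mem_centralizer_iff.1 (inf_le_right (a := A) hc') m hm)) hw'
  have hle : M ≤ ⁅M, A⁆ := orb_le fun x hx => by
    have h1 : ⁅x, w⁆ = ⁅x, m⁆ := by
      have hxc : c * x⁻¹ * c⁻¹ = x⁻¹ := by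
        rw [hAc c (inf_le_left (b := centralizer (M : Set G)) hc') _ (inv_mem hx), mul_inv_cancel_right]
      calc ⁅x, w⁆ = x * m * (c * x⁻¹ * c⁻¹) * m⁻¹ := by
            rw [← e]; simp only [commutatorElement_def]; group
        _ = _ := by rw [hxc, commutatorElement_def]
    rw [h1, ← commutatorElement_inv]
    exact inv_mem (commutator_mem_commutator hm hx)
  have hle' : ⁅M, A⁆ ≤ M := by
    rw [commutator_le]
    intro x hx e he
    rw [commutatorElement_def, mul_assoc, mul_assoc, ← mul_assoc e]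
    exact mul_mem hx (conj_orb he (inv_mem hx))
  exact commutator_ne hS ((hMW.trans hWQ).trans hQS) h.isMax.le
    (fun e' => hMA (e' ▸ bot_le)) (le_antisymm hle' hle)

end CfsgLib.JTransfer
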