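import Cfsg.Agent.Lib.JTransfer.Algebra
import Cfsg.Agent.Lib.JTransfer.Replacement
import Cfsg.Agent.Lib.Techniques.ChiefTools

/-!
# Commutator pairings of sections

Commutation pairs two normal sections into a third one centralised by both, equivariantly.  The
degree of an element on one factor is bounded by the degrees on the other factor and on the values.
-/

set_option autoImplicit false
set_option linter.unusedSectionVars false

open Subgroup
open scoped commutatorElement IsMulCommutative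

namespace CfsgLib.JTransfer

open CfsgLib.Techniques CfsgLib.Techniques.KInf

variable {G : Type*} [Group G]

section Pairing

variable {U B W Y : Subgroup G} [U.Normal] [B.Normal] [W.Normal] [Y.Normal]
  [IsMulCommutative ↥(sec W Y)]
variable (hW : ∀ u ∈ U, ∀ b ∈ B, ⁅u, b⁆ ∈ W)

/-- The class of the commutator of an element of `U` and one of `B`. -/
def comCl (Y : Subgroup G) [Y.Normal] (u : ↥U) (b : ↥B) : Additive ↥(sec W Y) :=
  cl Y ⟨⁅(u : G), (b : G)⁆, hW u u.2 b b.2⟩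

variable (hUW : ∀ u ∈ U, ∀ w ∈ W, ⁅u, w⁆ ∈ Y) (hBW : ∀ b ∈ B, ∀ w ∈ W, ⁅b, w⁆ ∈ Y)

include hUW in
theorem comCl_mul_left (u u' : ↥U) (b : ↥B) :
    comCl hW Y (u * u') b = comCl hW Y u b + comCl hW Y u' b := by
  have h0 := hW u' u'.2 b b.2
  have h1 : cl Y (⟨⁅(u : G), ⁅(u' : G), (b : G)⁆⁆, commutator_mem_of_normal W _ h0⟩ : ↥W) = 0 :=
    cl_eq_zero.2 (hUW u u.2 _ h0)
  calc comCl hW Y (u * u') b
      = cl Y ((⟨⁅(u : G), ⁅(u' : G), (b : G)⁆⁆, commutator_mem_of_normal W _ h0⟩ : ↥W) *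
          ⟨⁅(u' : G), (b : G)⁆, h0⟩ * ⟨⁅(u : G), (b : G)⁆, hW u u.2 b b.2⟩) :=
        congrArg (cl Y) (Subtype.ext (by
          simp only [Subgroup.coe_mul, commutatorElement_def]; group))
    _ = _ := by
      rw [cl_mul, cl_mul, h1, zero_add, add_comm]
      rfl

include hBW in
theorem comCl_mul_right (u : ↥U) (b b' : ↥B) :
    comCl hW Y u (b * b') = comCl hW Y u b + comCl hW Y u b' := by
  have h0 := hW u u.2 b' b'.2
  have h1 : cl Y (⟨⁅(b : G), ⁅(u : G), (b' : G)⁆⁆, commutator_mem_of_normal W _ h0⟩ : ↥W) = 0 :=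
    cl_eq_zero.2 (hBW b b.2 _ h0)
  calc comCl hW Y u (b * b')
      = cl Y ((⟨⁅(u : G), (b : G)⁆, hW u u.2 b b.2⟩ : ↥W) *
          ⟨⁅(b : G), ⁅(u : G), (b' : G)⁆⁆, commutator_mem_of_normal W _ h0⟩ *
          ⟨⁅(u : G), (b' : G)⁆, h0⟩) :=
        congrArg (cl Y) (Subtype.ext (by
          simp only [Subgroup.coe_mul, commutatorElement_def]; group))
    _ = _ := by
      rw [cl_mul, cl_mul, h1, add_zero]
      rfl

include hUW hBW in
/-- The equivariant pairing of sections. -/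
theorem exists_pairing {U₀ B₀ : Subgroup G} [U₀.Normal] [B₀.Normal] [IsMulCommutative ↥(sec U U₀)]
    [IsMulCommutative ↥(sec B B₀)] (hU₀ : ∀ u ∈ U, u ∈ U₀ → ∀ b ∈ B, ⁅u, b⁆ ∈ Y)
    (hB₀ : ∀ u ∈ U, ∀ b ∈ B, b ∈ B₀ → ⁅u, b⁆ ∈ Y) :
    ∃ ω : Additive ↥(sec U U₀) →+ Additive ↥(sec B B₀) →+ Additive ↥(sec W Y),
      (∀ (u : ↥U) (b : ↥B), ω (cl U₀ u) (cl B₀ b) = comCl hW Y u b) ∧
      ∀ (g : G) x y, ω (act U U₀ g x) (act B B₀ g y) = act W Y g (ω x y) := by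
  classical
  let r : Additive ↥(sec U U₀) → ↥U := fun x => (cl_surj x).choose
  let s : Additive ↥(sec B B₀) → ↥B := fun y => (cl_surj y).choose
  have hwdl : ∀ (u u' : ↥U) (b : ↥B), cl U₀ u = cl U₀ u' → comCl hW Y u b = comCl hW Y u' b := by
    intro u u' b e
    have h1 : comCl hW Y (u⁻¹ * u') b = 0 :=
      cl_eq_zero.2 (hU₀ _ (u⁻¹ * u').2 (by simpa using cl_eq_cl.1 e) b b.2)
    calc comCl hW Y u b = comCl hW Y u b + comCl hW Y (u⁻¹ * u') b := by rw [h1, add_zero]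
      _ = comCl hW Y (u * (u⁻¹ * u')) b := (comCl_mul_left hW hUW _ _ _).symm
      _ = _ := by rw [mul_inv_cancel_left]
  have hwdr : ∀ (u : ↥U) (b b' : ↥B), cl B₀ b = cl B₀ b' → comCl hW Y u b = comCl hW Y u b' := by
    intro u b b' e
    have h1 : comCl hW Y u (b⁻¹ * b') = 0 :=
      cl_eq_zero.2 (hB₀ u u.2 _ (b⁻¹ * b').2 (by simpa using cl_eq_cl.1 e))
    calc comCl hW Y u b = comCl hW Y u b + comCl hW Y u (b⁻¹ * b') := by rw [h1, add_zero]
      _ = comCl hW Y u (b * (b⁻¹ * b')) := (comCl_mul_right hW hBW _ _ _).symm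
      _ = _ := by rw [mul_inv_cancel_left]
  have hval : ∀ (u : ↥U) (b : ↥B),
      comCl hW Y (r (cl U₀ u)) (s (cl B₀ b)) = comCl hW Y u b := fun u b =>
    (hwdl _ u _ (cl_surj (cl U₀ u)).choose_spec).trans
      (hwdr u _ b (cl_surj (cl B₀ b)).choose_spec)
  refine ⟨AddMonoidHom.mk' (fun x => AddMonoidHom.mk' (fun y => comCl hW Y (r x) (s y)) ?_) ?_,
    hval, ?_⟩
  · intro y y'
    obtain ⟨u, rfl⟩ := cl_surj x
    obtain ⟨b, rfl⟩ := cl_surj y
    obtain ⟨b', rfl⟩ := cl_surj y'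
    rw [← cl_mul, hval, hval, hval, comCl_mul_right hW hBW]
  · intro x x'
    refine AddMonoidHom.ext fun y => ?_
    obtain ⟨u, rfl⟩ := cl_surj x
    obtain ⟨u', rfl⟩ := cl_surj x'
    obtain ⟨b, rfl⟩ := cl_surj y
    show comCl hW Y (r (cl U₀ u + cl U₀ u')) (s (cl B₀ b)) = _ + _
    rw [← cl_mul, hval, comCl_mul_left hW hUW, ← hval u, ← hval u']
    rfl
  · intro g x y
    obtain ⟨u, rfl⟩ := cl_surj x
    obtain ⟨b, rfl⟩ := cl_surj y
    show comCl hW Y (r (act U U₀ g (cl U₀ u))) (s (act B B₀ g (cl B₀ b))) =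
      act W Y g (comCl hW Y (r (cl U₀ u)) (s (cl B₀ b)))
    rw [act_cl, act_cl, hval, hval, comCl, comCl, act_cl]
    exact congrArg (cl Y) (Subtype.ext (by simp only [commutatorElement_def]; group))

end Pairing

/-- The degree on the top factor from a pairing into an abelian normal subgroup. -/
theorem Chosen.deg_of_pair [Finite G] {p : ℕ} [Fact p.Prime] {S Q A : Subgroup G} [Q.Normal]
    (h : Chosen S Q A) (hS : IsPGroup p S) (hQS : Q ≤ S) {U V B : Subgroup G} [U.Normal] [V.Normal]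
    [B.Normal] (hUQ : U ≤ Q) (hBQ : B ≤ Q)
    (hlow : ∀ N : Subgroup G, N.Normal → N ≤ U → N ≠ U → N ≤ V)
    (hBB : ⁅B, B⁆ ≤ centralizer (U : Set G)) (hne : ⁅U, B⁆ ≠ ⊥)
    (hab : ∀ x ∈ ⁅U, B⁆, ∀ y ∈ ⁅U, B⁆, Commute x y) {g : G} (hg : g ∈ A) {i : ℕ}
    (hi : Deg g i B (B ⊓ centralizer (U : Set G))) : Deg g (i + 2) U V := by
  classical
  set W := ⁅U, B⁆ with hWdef
  have hWn : W.Normal := inferInstance
  obtain ⟨Y, hY⟩ := exists_isChiefFactor hWn hne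
  haveI := hY.2.2.1
  have hWQ : W ≤ Q := (commutator_le_left U B).trans hUQ
  have hWY : ⁅W, Q⁆ ≤ Y :=
    commutator_le_of_isPGroup hY ((hS.to_le hQS).to_le hWQ) inferInstance (hS.to_le hQS)
  have hQW : ∀ u ∈ Q, ∀ w ∈ W, ⁅u, w⁆ ∈ Y := fun u hu w hw => by
    rw [← commutatorElement_inv]
    exact inv_mem (hWY (commutator_mem_commutator hw hu))
  haveI : IsMulCommutative ↥(sec W Y) := sec_comm ((commutator_mono le_rfl hWQ).trans hWY)
  have hW : ∀ u ∈ U, ∀ b ∈ B, ⁅u, b⁆ ∈ W := fun u hu b hb => commutator_mem_commutator hu hb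
  have hUW : ∀ u ∈ U, ∀ w ∈ W, ⁅u, w⁆ ∈ Y := fun u hu => hQW u (hUQ hu)
  have hBW : ∀ b ∈ B, ∀ w ∈ W, ⁅b, w⁆ ∈ Y := fun b hb => hQW b (hBQ hb)
  have hone : ∀ b : ↥B, comCl hW Y 1 b = 0 := fun b => cl_eq_zero.2 (by simp)
  let N : Subgroup G :=
    { carrier := {u | ∃ hu : u ∈ U, ∀ b : ↥B, comCl hW Y ⟨u, hu⟩ b = 0}
      one_mem' := ⟨U.one_mem, fun b => hone b⟩
      mul_mem' := by
        rintro u v ⟨hu, hu'⟩ ⟨hv, hv'⟩
        exact ⟨mul_mem hu hv, fun b => (comCl_mul_left hW hUW ⟨u, hu⟩ ⟨v, hv⟩ b).trans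
          (by rw [hu', hv', add_zero])⟩
      inv_mem' := by
        rintro u ⟨hu, hu'⟩
        refine ⟨inv_mem hu, fun b => ?_⟩
        have h1 := comCl_mul_left hW hUW (⟨u, hu⟩⁻¹ : ↥U) ⟨u, hu⟩ b
        rw [inv_mul_cancel, hone, hu', add_zero] at h1
        exact h1.symm }
  have hNU : N ≤ U := fun u hu => hu.1
  have hmemN : ∀ u ∈ U, (∀ b ∈ B, ⁅u, b⁆ ∈ Y) → u ∈ N := fun u hu hb =>
    ⟨hu, fun b => cl_eq_zero.2 (hb b b.2)⟩
  haveI hNn : N.Normal := ⟨by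
    rintro u ⟨hu, hu'⟩ c
    refine hmemN _ (Subgroup.Normal.conj_mem inferInstance u hu c) fun b hb => ?_
    have hb' : c⁻¹ * b * c ∈ B := Subgroup.Normal.conj_mem' inferInstance b hb c
    have h1 : ⁅u, c⁻¹ * b * c⁆ ∈ Y := cl_eq_zero.1 (hu' ⟨_, hb'⟩)
    have e : ⁅c * u * c⁻¹, b⁆ = c * ⁅u, c⁻¹ * b * c⁆ * c⁻¹ := by
      simp only [commutatorElement_def]; group
    rw [e]
    exact Subgroup.Normal.conj_mem inferInstance _ h1 c⟩
  have hNne : N ≠ U := fun e => hY.1.not_ge (by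
    rw [hWdef, commutator_le]
    intro u hu b hb
    exact cl_eq_zero.1 ((e.symm.le hu).2 ⟨b, hb⟩))
  have hUU : ⁅U, U⁆ ≤ N := by
    rw [commutator_le]
    intro u hu v hv
    refine ⟨commutator_le_self U (commutator_mem_commutator hu hv), fun b => ?_⟩
    have e : comCl hW Y ((⟨u, hu⟩ * ⟨v, hv⟩ : ↥U) * (⟨u, hu⟩⁻¹ * ⟨v, hv⟩⁻¹)) b = 0 := by
      have i1 : ∀ x : ↥U, comCl hW Y x⁻¹ b = - comCl hW Y x b := fun x => by
        refine eq_neg_of_add_eq_zero_left ?_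
        rw [← comCl_mul_left hW hUW, inv_mul_cancel, hone]
      rw [comCl_mul_left hW hUW, comCl_mul_left hW hUW, comCl_mul_left hW hUW, i1, i1]
      abel
    refine Eq.trans (congrArg (fun x => comCl hW Y x b) (Subtype.ext ?_)) e
    show ⁅u, v⁆ = u * v * (u⁻¹ * v⁻¹)
    rw [commutatorElement_def, mul_assoc]
  have hNval : ∀ x, x ∈ N ↔ ∃ hx : x ∈ U, ∀ b : ↥B, comCl hW Y ⟨x, hx⟩ b = 0 := fun x => Iff.rfl
  clear_value N
  haveI : IsMulCommutative ↥(sec U N) := sec_comm hUU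
  haveI : IsMulCommutative ↥(sec B (B ⊓ centralizer (U : Set G))) :=
    sec_comm (le_inf (commutator_le_self B) hBB)
  obtain ⟨ω, hω, heq⟩ := exists_pairing hW hUW hBW (U₀ := N) (B₀ := B ⊓ centralizer (U : Set G))
    (fun u hu huN b hb => cl_eq_zero.1 (((hNval u).1 huN).2 ⟨b, hb⟩))
    (fun u hu b _ hb => by
      rw [commutatorElement_eq_one_iff_mul_comm.2 (mem_centralizer_iff.1 hb.2 u hu)]
      exact one_mem Y)
  have h3 : (act W Y g - 1) ^ 3 = 0 := (deg_iff g 3).1 (h.deg_three hS hQS hWQ hWY hab hg)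
  have hT : (act B (B ⊓ centralizer (U : Set G)) g - 1) ^ i = 0 :=
    (deg_iff (U := B) (V := B ⊓ centralizer (U : Set G)) g i).1 hi
  have hdeg : Deg g (i + 3 - 1) U N := by
    intro u hu
    refine (hNval _).2 ⟨iterate_mem_of_normal U g _ hu, fun b => ?_⟩
    have h1 := pair_degree (act U N g) (act B (B ⊓ centralizer (U : Set G)) g) (act W Y g) ω
      (fun x y => heq g x y) (i := i) (j := 3) hT h3 (cl N ⟨u, hu⟩)
      (cl (B ⊓ centralizer (U : Set G)) b)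
    have h2 := pow_cl (V := N) g (i + 3 - 1) ⟨u, hu⟩
    rw [h2, hω] at h1
    exact h1
  exact (hdeg.mono_right (hlow N hNn hNU hNne)).mono (by omega)

/-- An abelian normal subgroup not centralised by `U` bounds the degree on the top factor. -/
theorem Chosen.deg_of_abelian [Finite G] {p : ℕ} [Fact p.Prime] {S Q A : Subgroup G} [Q.Normal]
    (h : Chosen S Q A) (hS : IsPGroup p S) (hQS : Q ≤ S) {U V B : Subgroup G} [U.Normal] [V.Normal]
    [B.Normal] (hUQ : U ≤ Q) (hBQ : B ≤ Q)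
    (hlow : ∀ N : Subgroup G, N.Normal → N ≤ U → N ≠ U → N ≤ V)
    (hab : ∀ x ∈ B, ∀ y ∈ B, Commute x y) (hne : ¬ B ≤ centralizer (U : Set G))
    {g : G} (hg : g ∈ A) : Deg g 5 U V := by
  classical
  obtain ⟨B₁, ⟨hB₁n, hB₁B, hB₁U⟩, hmin⟩ := Set.Finite.exists_minimal
    (s := {B₁ : Subgroup G | B₁.Normal ∧ B₁ ≤ B ∧ ¬ B₁ ≤ centralizer (U : Set G)})
    (Set.toFinite _) ⟨B, inferInstance, le_rfl, hne⟩
  haveI := hB₁n
  have hab₁ : ∀ x ∈ B₁, ∀ y ∈ B₁, Commute x y := fun x hx y hy =>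
    hab x (hB₁B hx) y (hB₁B hy)
  have hB₁ne : B₁ ≠ ⊥ := fun e => hB₁U (e ▸ bot_le)
  have hBQ' : ⁅B₁, Q⁆ ≤ B₁ ⊓ centralizer (U : Set G) := by
    refine le_inf (commutator_le_left _ _) ?_
    by_contra hc
    exact commutator_ne hS ((hB₁B.trans hBQ).trans hQS) hQS hB₁ne
      (le_antisymm (commutator_le_left _ _)
        (hmin ⟨inferInstance, (commutator_le_left _ _).trans hB₁B, hc⟩ (commutator_le_left _ _)))
  have hbb : ⁅B₁, B₁⁆ ≤ centralizer (U : Set G) :=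
    ((commutator_mono le_rfl (hB₁B.trans hBQ)).trans hBQ').trans inf_le_right
  refine (h.deg_of_pair hS hQS hUQ (hB₁B.trans hBQ) hlow hbb (fun e => hB₁U ?_) (fun x hx y hy => ?_)
    hg (h.deg_three hS hQS (hB₁B.trans hBQ) hBQ' hab₁ hg))
  · exact le_centralizer_iff.1 (commutator_eq_bot_iff_le_centralizer.1 e)
  · exact hab₁ x (commutator_le_right U B₁ hx) y (commutator_le_right U B₁ hy)

end CfsgLib.JTransfer
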