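import Cfsg.Prelude.Def_PLocal
import Mathlib

/-!
# Normal sections as modules

For normal subgroups `U`, `V` with `⁅U, U⁆ ≤ V` the image of `U` in `G ⧸ V` is an abelian normal
subgroup, and `G` acts on its additive copy.  The degree of an element on the section is expressed
by iterated commutators of elements.
-/

set_option autoImplicit false
set_option linter.unusedSectionVars false

open Subgroup
open scoped commutatorElement IsMulCommutative

namespace CfsgLib.JTransfer

variable {G : Type*} [Group G]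

/-- Iterated commutators with `g` of elements of `U` land in `V` after `k` steps. -/
def Deg (g : G) (k : ℕ) (U V : Subgroup G) : Prop :=
  ∀ u ∈ U, (fun x => ⁅g, x⁆)^[k] u ∈ V

theorem commutator_mem_of_normal (U : Subgroup G) [hU : U.Normal] (g : G) {u : G} (hu : u ∈ U) :
    ⁅g, u⁆ ∈ U := by
  rw [commutatorElement_def]
  exact mul_mem (hU.conj_mem u hu g) (inv_mem hu)

theorem iterate_mem_of_normal (U : Subgroup G) [U.Normal] (g : G) (k : ℕ) {u : G} (hu : u ∈ U) :
    (fun x => ⁅g, x⁆)^[k] u ∈ U := by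
  induction k with
  | zero => exact hu
  | succ k ih => rw [Function.iterate_succ_apply']; exact commutator_mem_of_normal U g ih

theorem Deg.mono_right {g : G} {k : ℕ} {U V V' : Subgroup G} (h : Deg g k U V) (hV : V ≤ V') :
    Deg g k U V' := fun u hu => hV (h u hu)

theorem Deg.mono {g : G} {k m : ℕ} {U V : Subgroup G} [U.Normal] (h : Deg g k U V) (hkm : k ≤ m) :
    Deg g m U V := by
  intro u hu
  rw [← Nat.add_sub_cancel' hkm, Function.iterate_add_apply]
  exact h _ (iterate_mem_of_normal U g _ hu)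

/-- A nontrivial subgroup of a `p`-group is bigger than its commutator with another subgroup. -/
theorem commutator_ne [Finite G] {p : ℕ} [Fact p.Prime] {S X Y : Subgroup G} (hS : IsPGroup p S)
    (hX : X ≤ S) (hY : Y ≤ S) (hne : X ≠ ⊥) : ⁅X, Y⁆ ≠ X := by
  intro he
  have : Group.IsNilpotent ↥S := hS.isNilpotent
  have hall : ∀ n, X ≤ Subgroup.lowerCentralSeries S n := by
    intro n
    induction n with
    | zero => exact hX
    | succ n ih =>
      rw [← he, Subgroup.lowerCentralSeries_succ]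
      exact commutator_mono ih hY
  obtain ⟨n, hn⟩ := (Subgroup.isNilpotent_iff_lowerCentralSeries S).1
    (inferInstance : Group.IsNilpotent ↥S)
  exact hne (le_bot_iff.1 ((hall n).trans hn.le))

/-! ### The module of a section -/

section Rho

variable (N : Subgroup G) [N.Normal] [IsMulCommutative ↥N]

/-- Conjugation on an abelian normal subgroup. -/
def conjHom : G →* AddMonoid.End (Additive ↥N) where
  toFun g :=
    { toFun := fun v => Additive.ofMul (MulAut.conjNormal g v.toMul)
      map_zero' := congrArg Additive.ofMul (map_one _)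
      map_add' := fun a b => congrArg Additive.ofMul (map_mul (MulAut.conjNormal g) a.toMul b.toMul) }
  map_one' := AddMonoidHom.ext fun v => Additive.toMul.injective (Subtype.ext (by
    show (1 : G) * (v.toMul : G) * (1 : G)⁻¹ = (v.toMul : G)
    simp))
  map_mul' a b := AddMonoidHom.ext fun v => Additive.toMul.injective (Subtype.ext (by
    show a * b * (v.toMul : G) * (a * b)⁻¹ = a * (b * (v.toMul : G) * b⁻¹) * a⁻¹
    group))

end Rho

/-- The image of `U` modulo `V`. -/
abbrev sec (U V : Subgroup G) [V.Normal] : Subgroup (G ⧸ V) := U.map (QuotientGroup.mk' V)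

instance sec_normal (U V : Subgroup G) [hU : U.Normal] [V.Normal] : (sec U V).Normal :=
  hU.map _ (QuotientGroup.mk'_surjective V)

theorem sec_comm {U V : Subgroup G} [V.Normal] (h : ⁅U, U⁆ ≤ V) : IsMulCommutative ↥(sec U V) := by
  refine ⟨⟨fun a b => Subtype.ext ?_⟩⟩
  obtain ⟨x, hx, hxe⟩ := mem_map.1 a.2
  obtain ⟨y, hy, hye⟩ := mem_map.1 b.2
  show (a : G ⧸ V) * b = b * a
  rw [← hxe, ← hye, ← commutatorElement_eq_one_iff_mul_comm, ← map_commutatorElement]
  exact (QuotientGroup.eq_one_iff _).2 (h (commutator_mem_commutator hx hy))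

variable {U V : Subgroup G} [hUn : U.Normal] [hVn : V.Normal] [IsMulCommutative ↥(sec U V)]

/-- The class of an element of `U`. -/
def cl (V : Subgroup G) [V.Normal] (u : ↥U) : Additive ↥(sec U V) :=
  Additive.ofMul ⟨QuotientGroup.mk' V u, mem_map_of_mem _ u.2⟩

/-- The action of `G` on the section. -/
def act (U V : Subgroup G) [U.Normal] [V.Normal] [IsMulCommutative ↥(sec U V)] :
    G →* AddMonoid.End (Additive ↥(sec U V)) :=
  (conjHom (sec U V)).comp (QuotientGroup.mk' V)

theorem cl_surj (v : Additive ↥(sec U V)) : ∃ u : ↥U, cl V u = v := by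
  obtain ⟨x, hx, e⟩ := mem_map.1 v.toMul.2
  exact ⟨⟨x, hx⟩, congrArg Additive.ofMul (Subtype.ext e)⟩

theorem cl_eq_zero {u : ↥U} : cl V u = 0 ↔ (u : G) ∈ V := by
  constructor
  · intro h
    have h1 := congrArg (fun v : Additive ↥(sec U V) => ((v.toMul : ↥(sec U V)) : G ⧸ V)) h
    exact (QuotientGroup.eq_one_iff _).1 h1
  · intro h
    exact congrArg Additive.ofMul (Subtype.ext ((QuotientGroup.eq_one_iff _).2 h))

theorem cl_mul (u v : ↥U) : cl V (u * v) = cl V u + cl V v :=
  congrArg Additive.ofMul (Subtype.ext (map_mul (QuotientGroup.mk' V) (u : G) v))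

theorem cl_one : cl V (1 : ↥U) = 0 := cl_eq_zero.2 V.one_mem

theorem cl_inv (u : ↥U) : cl V u⁻¹ = - cl V u := by
  refine eq_neg_of_add_eq_zero_left ?_
  rw [← cl_mul, inv_mul_cancel, cl_one]

theorem cl_eq_cl {u v : ↥U} : cl V u = cl V v ↔ (u : G)⁻¹ * v ∈ V := by
  rw [← neg_add_eq_zero, ← cl_inv, ← cl_mul, cl_eq_zero]
  simp

theorem act_cl (g : G) (u : ↥U) :
    act U V g (cl V u) = cl V ⟨g * u * g⁻¹, hUn.conj_mem u u.2 g⟩ := by
  refine congrArg Additive.ofMul (Subtype.ext ?_)
  show QuotientGroup.mk' V g * QuotientGroup.mk' V u * (QuotientGroup.mk' V g)⁻¹ = _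
  rw [← map_inv, ← map_mul, ← map_mul]

theorem diff_cl (g : G) (u : ↥U) :
    (act U V g - 1) (cl V u) = cl V ⟨⁅g, (u : G)⁆, commutator_mem_of_normal U g u.2⟩ := by
  show act U V g (cl V u) - cl V u = _
  rw [act_cl, sub_eq_add_neg, ← cl_inv, ← cl_mul]
  rfl

theorem pow_cl (g : G) (k : ℕ) (u : ↥U) :
    ((act U V g - 1) ^ k) (cl V u) =
      cl V ⟨(fun x => ⁅g, x⁆)^[k] u, iterate_mem_of_normal U g k u.2⟩ := by
  induction k with
  | zero => rfl
  | succ k ih =>
    rw [pow_succ']
    show (act U V g - 1) (((act U V g - 1) ^ k) (cl V u)) = _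
    rw [ih, diff_cl]
    exact congrArg (cl V) (Subtype.ext (Function.iterate_succ_apply' (fun x => ⁅g, x⁆) k (u : G)).symm)

theorem deg_iff (g : G) (k : ℕ) : Deg g k U V ↔ (act U V g - 1) ^ k = 0 := by
  constructor
  · intro h
    refine AddMonoidHom.ext fun v => ?_
    obtain ⟨u, rfl⟩ := cl_surj v
    exact (pow_cl g k u).trans (cl_eq_zero.2 (h u u.2))
  · intro h u hu
    have h1 := pow_cl (V := V) g k ⟨u, hu⟩
    rw [h] at h1
    exact cl_eq_zero.1 h1.symm

theorem smul_cl_eq_zero {n : ℕ} (hexp : ∀ u ∈ U, u ^ n ∈ V) (v : Additive ↥(sec U V)) :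
    n • v = 0 := by
  obtain ⟨u, rfl⟩ := cl_surj v
  refine congrArg Additive.ofMul (Subtype.ext ?_)
  show (QuotientGroup.mk' V (u : G)) ^ n = 1
  rw [← map_pow]
  exact (QuotientGroup.eq_one_iff _).2 (hexp u u.2)

omit [IsMulCommutative ↥(sec U V)]

/-- Degree at most `k` in the sense of elements bounds the iterated commutator subgroup. -/
theorem Deg.iterCommutator_le [Finite G] {g : G} {k : ℕ} (h : Deg g k U V) (hab : ⁅U, U⁆ ≤ V) :
    Cfsg.iterCommutator U (zpowers g) k ≤ V := by
  have := sec_comm hab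
  set T := act U V g - 1 with hT
  let K : ℕ → Subgroup G := fun m =>
    { carrier := {x | ∃ hx : x ∈ U, (T ^ m) (cl V ⟨x, hx⟩) = 0}
      one_mem' := ⟨U.one_mem, by
        rw [show (⟨1, U.one_mem⟩ : ↥U) = 1 from rfl, cl_one, map_zero]⟩
      mul_mem' := by
        rintro a b ⟨ha, ha'⟩ ⟨hb, hb'⟩
        exact ⟨mul_mem ha hb, by
          rw [show (⟨a * b, mul_mem ha hb⟩ : ↥U) = ⟨a, ha⟩ * ⟨b, hb⟩ from rfl, cl_mul, map_add, ha',
            hb', add_zero]⟩
      inv_mem' := by
        rintro a ⟨ha, ha'⟩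
        exact ⟨inv_mem ha, by
          rw [show (⟨a⁻¹, inv_mem ha⟩ : ↥U) = (⟨a, ha⟩ : ↥U)⁻¹ from rfl, cl_inv, map_neg, ha',
            neg_zero]⟩ }
  have hstep : ∀ m, ⁅K (m + 1), zpowers g⁆ ≤ K m := by
    intro m
    rw [commutator_le]
    rintro x ⟨hx, hx'⟩ z hz
    obtain ⟨n, rfl⟩ := (isOfFinOrder_of_finite g).mem_powers_iff_mem_zpowers.2 hz
    have e : ⁅x, g ^ n⁆ = ⁅g ^ n, x⁆⁻¹ := (commutatorElement_inv _ _).symm
    rw [e]
    refine inv_mem ⟨commutator_mem_of_normal U _ hx, ?_⟩
    rw [← diff_cl (g ^ n) ⟨x, hx⟩, map_pow, ← geom_sum_mul]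
    set R := ∑ i ∈ Finset.range n, act U V g ^ i with hR
    have hcomm : Commute (T ^ m) R := by
      refine Commute.pow_left ?_ m
      exact Commute.sum_right _ _ _ fun i _ =>
        ((Commute.refl (act U V g)).sub_left (Commute.one_left _)).pow_right i
    show (T ^ m * (R * T)) (cl V ⟨x, hx⟩) = 0
    rw [← mul_assoc, hcomm.eq, mul_assoc, ← pow_succ]
    show R ((T ^ (m + 1)) (cl V ⟨x, hx⟩)) = 0
    rw [hx', map_zero]
  have hit : ∀ j, j ≤ k → Cfsg.iterCommutator U (zpowers g) j ≤ K (k - j) := by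
    intro j
    induction j with
    | zero =>
      intro _ x hx
      refine ⟨hx, ?_⟩
      have h0 : T ^ k = 0 := (deg_iff g k).1 h
      show (T ^ k) _ = 0
      rw [h0]; rfl
    | succ j ih =>
      intro hj
      refine (commutator_mono (ih (by omega)) le_rfl).trans ?_
      rw [show k - j = k - (j + 1) + 1 by omega]
      exact hstep _
  intro x hx
  obtain ⟨hxU, hx'⟩ := hit k le_rfl hx
  rw [Nat.sub_self, pow_zero] at hx'
  exact cl_eq_zero.1 hx'

end CfsgLib.JTransfer
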